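import Cfsg.Agent.Lib.Linear.OrthStdBasis
import Cfsg.Agent.Lib.Linear.OrthForms

set_option linter.style.haveILetI false

/-!
# Extending isometries along embeddings of quadratic spaces; embeddings of the standard forms
-/

set_option autoImplicit false

namespace Cfsg.Agent.Lib.Linear.PrimeClasses

open Polynomial
open scoped Matrix
open Cfsg.Lib.Linear.Orth

variable {F : Type*} [Field F]

section extend

variable {ι κ : Type} [Fintype ι] [DecidableEq ι] [Fintype κ] [DecidableEq κ]
  {Q : (ι → F) → F} {B : LinearMap.BilinForm F (ι → F)} {R : (κ → F) → F} {D : LinearMap.BilinForm F (κ → F)}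

theorem charpoly_one_add {n : Type} [Fintype n] [DecidableEq n] (M : Matrix n n F) :
    (1 + M).charpoly = M.charpoly.comp (X - C 1) := by
  have h := Matrix.charpoly_sub_scalar (1 + M) (1 : F)
  rw [show (1 : Matrix n n F) + M - Matrix.scalar n (1 : F) = M by
    rw [map_one, add_sub_cancel_left]] at h
  rw [h, comp_assoc]
  simp

/-- An isometry of an embedded subspace extends by the identity on the orthogonal complement. -/
theorem extend_isometry (C : Space Q B) (C' : Space R D) (E : Matrix ι κ F) (hE : ∀ w, Q (E *ᵥ w) = R w)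
    (A : Matrix κ κ F) (hA : ∀ w, R (A *ᵥ w) = R w) {r : ℕ} (hr : 1 ≤ r) (hAr : A ^ r = 1) :
    ∃ g : ↥(Cfsg.isometryGroup F Q), g ^ r = 1 ∧
      ((g : GL ι F) : Matrix ι ι F).charpoly = A.charpoly * (X - 1) ^ (Fintype.card ι - Fintype.card κ) := by
  classical
  set J := LinearMap.BilinForm.toMatrix' B with hJdef
  set J' := LinearMap.BilinForm.toMatrix' D with hJ'def
  have hJd : ∀ u v, u ⬝ᵥ (J *ᵥ v) = B u v := fun u v => by
    rw [← Matrix.toBilin'_apply', hJdef, Matrix.toBilin'_toMatrix']
  have hJ'd : ∀ u v, u ⬝ᵥ (J' *ᵥ v) = D u v := fun u v => by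
    rw [← Matrix.toBilin'_apply', hJ'def, Matrix.toBilin'_toMatrix']
  have hBE : ∀ u v, B (E *ᵥ u) (E *ᵥ v) = D u v := fun u v => by
    rw [← C.polar, ← C'.polar, QuadraticMap.polar, QuadraticMap.polar, ← Matrix.mulVec_add, hE, hE, hE]
  have hEJ : Eᵀ * J * E = J' := Matrix.ext_iff_mulVec.mpr fun v => dotProduct_eq _ _ fun u => by
    rw [dotProduct_comm, dotProduct_comm _ u, hJ'd, ← Matrix.mulVec_mulVec, ← Matrix.mulVec_mulVec,
      Matrix.dotProduct_mulVec, Matrix.vecMul_transpose, hJd, hBE]
  have hJ'u : IsUnit J' := Matrix.mulVec_injective_iff_isUnit.mp fun v w hvw => sub_eq_zero.mp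
    (C'.nondeg _ fun u => by rw [map_sub, ← hJ'd, ← hJ'd, hvw, sub_self])
  obtain ⟨J'i, hJ'i⟩ := hJ'u.exists_left_inv
  have hJ'i' : J' * J'i = 1 := mul_eq_one_comm.mp hJ'i
  set P : Matrix κ ι F := J'i * (Eᵀ * J) with hP
  have hPE : P * E = 1 := by rw [hP, Matrix.mul_assoc, hEJ, hJ'i]
  have hsym : ∀ y w, B y (E *ᵥ w) = D (P *ᵥ y) w := fun y w => by
    rw [C.symm, C'.symm, ← hJd, ← hJ'd, Matrix.mulVec_mulVec, hP, ← Matrix.mul_assoc J', hJ'i', Matrix.one_mul,
      ← Matrix.mulVec_mulVec, Matrix.dotProduct_mulVec w, Matrix.vecMul_transpose]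
  set G : Matrix ι ι F := 1 + E * (A - 1) * P with hG
  have hPw : ∀ (M M' : Matrix κ κ F), (1 + E * (M - 1) * P) * (1 + E * (M' - 1) * P) = 1 + E * (M * M' - 1) * P := by
    intro M M'
    have h : E * (M - 1) * P * (E * (M' - 1) * P) = E * ((M - 1) * (M' - 1)) * P := by
      calc E * (M - 1) * P * (E * (M' - 1) * P) = E * (M - 1) * (P * E) * (M' - 1) * P := by
            simp only [Matrix.mul_assoc]
        _ = _ := by rw [hPE, Matrix.mul_one, Matrix.mul_assoc E]
    rw [add_mul, one_mul, mul_add, mul_one, h,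
      show M * M' - 1 = (M' - 1) + ((M - 1) + (M - 1) * (M' - 1)) by noncomm_ring]
    simp only [Matrix.mul_add, Matrix.add_mul]
    abel
  have hGk : ∀ k : ℕ, G ^ k = 1 + E * (A ^ k - 1) * P := fun k => by
    induction k with
    | zero => rw [pow_zero, pow_zero, sub_self, Matrix.mul_zero, Matrix.zero_mul, add_zero]
    | succ k ih => rw [pow_succ, ih, hG, hPw, pow_succ]
  have hGr : G ^ r = 1 := by rw [hGk, hAr, sub_self, Matrix.mul_zero, Matrix.zero_mul, add_zero]
  have hGQ : ∀ y, Q (G *ᵥ y) = Q y := fun y => by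
    set w := (A - 1) *ᵥ (P *ᵥ y) with hw
    have hgy : G *ᵥ y = y + E *ᵥ w := by
      rw [hG, Matrix.add_mulVec, Matrix.one_mulVec, hw, Matrix.mulVec_mulVec, Matrix.mulVec_mulVec, Matrix.mul_assoc]
    rw [hgy, C.add, hE, hsym]
    have h1 : R (P *ᵥ y + w) = R (P *ᵥ y) := by
      rw [hw, Matrix.sub_mulVec, Matrix.one_mulVec, add_sub_cancel, hA]
    rw [C'.add] at h1
    linear_combination h1
  let u : GL ι F := Units.mk G (G ^ (r - 1)) (by rw [← pow_succ', Nat.sub_add_cancel hr, hGr])
    (by rw [← pow_succ, Nat.sub_add_cancel hr, hGr])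
  refine ⟨⟨u, mem_iso.mpr hGQ⟩, Subtype.ext (Units.ext hGr), ?_⟩
  show G.charpoly = _
  have h1 := Matrix.charpoly_mul_comm' (E * (A - 1)) P
  rw [← Matrix.mul_assoc P E, hPE, Matrix.one_mul] at h1
  have h2 := congrArg (fun p : F[X] => p.comp (X - Polynomial.C 1)) h1
  simp only [mul_comp, pow_comp, X_comp] at h2
  rw [← charpoly_one_add, ← charpoly_one_add, ← hG, add_sub_cancel, C_1] at h2
  have hle : Fintype.card κ ≤ Fintype.card ι := by
    have hinj : Function.Injective (Matrix.mulVecLin E) := fun v w hvw => by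
      have := congrArg (P *ᵥ ·) hvw
      simpa [Matrix.mulVec_mulVec, hPE] using this
    simpa using LinearMap.finrank_le_finrank_of_injective hinj
  have hne : ((X - 1 : F[X]) ^ Fintype.card κ) ≠ 0 := by
    refine pow_ne_zero _ ?_
    rw [← C_1]
    exact X_sub_C_ne_zero 1
  refine mul_left_cancel₀ hne (h2.trans ?_)
  rw [← mul_assoc, mul_comm ((X - 1 : F[X]) ^ Fintype.card κ) A.charpoly, mul_assoc, ← pow_add,
    Nat.add_sub_cancel' hle, mul_comm]

/-- Two quadratic forms agreeing on the standard basis with the same polar values agree. -/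
theorem form_ext {Q' : (ι → F) → F} {B' : LinearMap.BilinForm F (ι → F)} (C : Space Q B) (C' : Space Q' B')
    (h1 : ∀ i, Q (Pi.single i 1) = Q' (Pi.single i 1))
    (h2 : ∀ i j, B (Pi.single i 1) (Pi.single j 1) = B' (Pi.single i 1) (Pi.single j 1)) (v : ι → F) :
    Q v = Q' v := by
  classical
  have hB : B = B' := LinearMap.ext_basis (Pi.basisFun F ι) (Pi.basisFun F ι) fun i j => by
    rw [Pi.basisFun_apply, Pi.basisFun_apply]; exact h2 i j
  have key : ∀ (s : Finset ι) (c : ι → F), Q (∑ i ∈ s, c i • Pi.single i (1 : F)) = Q' (∑ i ∈ s, c i • Pi.single i (1 : F)) := by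
    intro s c
    induction s using Finset.induction_on with
    | empty => rw [Finset.sum_empty, C.zero, C'.zero]
    | insert i s his ih => rw [Finset.sum_insert his, C.add, C'.add, C.smul, C'.smul, h1, ih, hB]
  have hv : v = ∑ i, v i • Pi.single i (1 : F) := pi_eq_sum_univ' v
  rw [hv]
  exact key _ _

end extend

/-- An isometric linear embedding. -/
def Embeds {κ ι : Type} (R : (κ → F) → F) (Q : (ι → F) → F) : Prop :=
  ∃ L : (κ → F) →ₗ[F] (ι → F), ∀ v, Q (L v) = R v

theorem Embeds.trans {κ ι μ : Type} {R : (κ → F) → F} {Q : (ι → F) → F} {S : (μ → F) → F}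
    (h : Embeds R Q) (h' : Embeds Q S) : Embeds R S := by
  obtain ⟨L, hL⟩ := h
  obtain ⟨L', hL'⟩ := h'
  exact ⟨L'.comp L, fun v => (hL' _).trans (hL v)⟩

/-- A space of dimension `2k` embeds in one of the two standard spaces. -/
theorem classify [Finite F] {κ : Type} [Fintype κ] [DecidableEq κ] {R : (κ → F) → F}
    {D : LinearMap.BilinForm F (κ → F)} (C' : Space R D) {k : ℕ} (hk : 1 ≤ k) (hcard : Fintype.card κ = 2 * k) :
    (Embeds R (Cfsg.quadFormPlus k F) ∧ Embeds (Cfsg.quadFormPlus k F) R) ∨
    ∃ ζ : F, (∀ z₁ z₂ : F, z₁ ^ 2 + 1 * z₁ * z₂ + ζ * z₂ ^ 2 = 0 → z₁ = 0 ∧ z₂ = 0) ∧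
      Embeds R (Cfsg.quadFormMinus (k - 1) F 1 ζ) ∧ Embeds (Cfsg.quadFormMinus (k - 1) F 1 ζ) R := by
  classical
  let qf : QuadraticForm F (κ → F) := QuadraticMap.ofPolar R
    (fun a x => by rw [C'.smul, smul_eq_mul, sq])
    (fun x x' y => by simp only [C'.polar, map_add, LinearMap.add_apply])
    (fun a x y => by simp only [C'.polar, map_smul, LinearMap.smul_apply])
  have hqn : (QuadraticMap.polarBilin qf).Nondegenerate := by
    constructor <;> intro x hx
    · exact C'.nondeg' fun y => by rw [← C'.polar]; exact hx y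
    · exact C'.nondeg _ fun y => by rw [← C'.polar]; exact hx y
  have hV : Module.finrank F (κ → F) = 2 * k := by rw [Module.finrank_fintype_fun_eq_card, hcard]
  have hD : ∀ u v, QuadraticMap.polar ⇑qf u v = D u v := fun u v => C'.polar u v
  have sym : ∀ u v, D u v = D v u := C'.symm
  have build : ∀ {μ : Type} [Fintype μ] [DecidableEq μ] (b : Module.Basis μ F (κ → F)) {S : (μ → F) → F}
      {DS : LinearMap.BilinForm F (μ → F)}, Space S DS →
      (∀ i, R (b i) = S (Pi.single i 1)) → (∀ i j, D (b i) (b j) = DS (Pi.single i 1) (Pi.single j 1)) →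
      Embeds R S ∧ Embeds S R := by
    intro μ _ _ b S DS CS h1 h2
    let L : (μ → F) →ₗ[F] (κ → F) := b.equivFun.symm.toLinearMap
    have hLi : ∀ i, L (Pi.single i 1) = b i := fun i => by
      show b.equivFun.symm (Pi.single i 1) = b i
      rw [LinearEquiv.symm_apply_eq]
      funext j
      simp [Pi.single_apply, Finsupp.single_apply, eq_comm]
    have CL : Space (fun v => R (L v)) (D.compl₁₂ L L) :=
      ⟨fun t v => by rw [map_smul, C'.smul], fun u v => by
        show R (L (u + v)) - R (L u) - R (L v) = D (L u) (L v)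
        rw [map_add, C'.add]; ring,
      fun v hv => b.equivFun.symm.injective ((C'.nondeg _ fun u => by
        obtain ⟨u, rfl⟩ := b.equivFun.symm.surjective u
        exact hv u).trans (map_zero _).symm)⟩
    have heq := form_ext CL CS (fun i => by rw [hLi, h1]) (fun i j => by
      rw [← h2]; show D (L _) (L _) = _; rw [hLi, hLi])
    refine ⟨⟨b.equivFun.toLinearMap, fun v => ?_⟩, ⟨L, heq⟩⟩
    rw [← heq]
    show R (b.equivFun.symm (b.equivFun v)) = R v
    rw [LinearEquiv.symm_apply_apply]
  rcases Cfsg.Lib.Linear.Orth.std_basis_even hk hV qf hqn with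
    ⟨b, hq, hef, hee⟩ | ⟨b, ζ, hζ, hq, hef, hee, hpl, hx, hxy, hy⟩
  · left
    obtain ⟨DS, CS⟩ := exists_space_plus (F := F) k
    refine build b CS (fun i => ?_) (fun i j => ?_)
    · rcases i with i | i
      · rw [show R (b (.inl i)) = 0 from (hq i).1]; simp [Cfsg.quadFormPlus, Pi.single_apply]
      · rw [show R (b (.inr i)) = 0 from (hq i).2]; simp [Cfsg.quadFormPlus, Pi.single_apply]
    · rw [← CS.polar, polar_plus_apply]
      rcases i with i | i <;> rcases j with j | j
      · rw [← hD, (hee i j).1]; simp [Pi.single_apply]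
      · rw [← hD, hef i j]; simp [Pi.single_apply, eq_comm]
      · rw [sym, ← hD, hef j i]; simp [Pi.single_apply, eq_comm]
      · rw [← hD, (hee i j).2]; simp [Pi.single_apply]
  · right
    have hab : ∀ z₁ z₂ : F, z₁ ^ 2 + 1 * z₁ * z₂ + ζ * z₂ ^ 2 = 0 → z₁ = 0 ∧ z₂ = 0 := fun z₁ z₂ h => by
      by_cases h2 : z₂ = 0
      · subst h2; simp at h; exact ⟨h, rfl⟩
      · exfalso
        refine hζ (z₁ / z₂) ?_
        field_simp
        linear_combination h
    obtain ⟨DS, CS⟩ := exists_space_minus (k - 1) 1 ζ hab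
    refine ⟨ζ, hab, build b CS (fun i => ?_) (fun i j => ?_)⟩
    · rcases i with (i | i) | i
      · rw [show R (b (.inl (.inl i))) = 0 from (hq i).1]; simp [Cfsg.quadFormMinus, Pi.single_apply]
      · rw [show R (b (.inl (.inr i))) = 0 from (hq i).2]; simp [Cfsg.quadFormMinus, Pi.single_apply]
      · fin_cases i
        · show R (b (.inr 0)) = _
          rw [show R (b (.inr 0)) = 1 from hx]; simp [Cfsg.quadFormMinus, Pi.single_apply]
        · show R (b (.inr 1)) = _
          rw [show R (b (.inr 1)) = ζ from hy]; simp [Cfsg.quadFormMinus, Pi.single_apply]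
    · rw [← CS.polar]
      rcases i with (i | i) | i <;> rcases j with (j | j) | j
      · rw [← hD, (hee i j).1]
        simp [QuadraticMap.polar, Cfsg.quadFormMinus, Pi.single_apply, add_mul, mul_add, Finset.sum_add_distrib]
      · rw [← hD, hef i j]
        simp [QuadraticMap.polar, Cfsg.quadFormMinus, Pi.single_apply, add_mul, mul_add, Finset.sum_add_distrib, eq_comm]
      · rw [← hD, (hpl i j).1]
        fin_cases j <;>
          simp [QuadraticMap.polar, Cfsg.quadFormMinus, Pi.single_apply, add_mul, mul_add, Finset.sum_add_distrib]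
      · rw [sym, ← hD, hef j i]
        simp [QuadraticMap.polar, Cfsg.quadFormMinus, Pi.single_apply, add_mul, mul_add, Finset.sum_add_distrib, eq_comm]
      · rw [← hD, (hee i j).2]
        simp [QuadraticMap.polar, Cfsg.quadFormMinus, Pi.single_apply, add_mul, mul_add, Finset.sum_add_distrib]
      · rw [← hD, (hpl i j).2]
        fin_cases j <;>
          simp [QuadraticMap.polar, Cfsg.quadFormMinus, Pi.single_apply, add_mul, mul_add, Finset.sum_add_distrib]
      · rw [sym, ← hD, (hpl j i).1]
        fin_cases i <;>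
          simp [QuadraticMap.polar, Cfsg.quadFormMinus, Pi.single_apply, add_mul, mul_add, Finset.sum_add_distrib]
      · rw [sym, ← hD, (hpl j i).2]
        fin_cases i <;>
          simp [QuadraticMap.polar, Cfsg.quadFormMinus, Pi.single_apply, add_mul, mul_add, Finset.sum_add_distrib]
      · have s0 : D (b (.inr 0)) (b (.inr 0)) = 2 * 1 := by rw [C'.self, show R (b (.inr 0)) = 1 from hx]
        have s1 : D (b (.inr 1)) (b (.inr 1)) = 2 * ζ := by rw [C'.self, show R (b (.inr 1)) = ζ from hy]
        have s01 : D (b (.inr 0)) (b (.inr 1)) = 1 := by rw [← hD, hxy]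
        fin_cases i <;> fin_cases j <;>
          simp only [Fin.zero_eta, Fin.mk_one] <;>
          first
            | rw [s0] | rw [s1] | rw [s01] | rw [sym, s01]
        all_goals
          simp [QuadraticMap.polar, Cfsg.quadFormMinus, Pi.single_apply, add_mul, mul_add, Finset.sum_add_distrib]
        all_goals ring

/-- Zero padding. -/
def pad {k : ℕ} (m : ℕ) (x : Fin k → F) (i : Fin m) : F := if h : (i : ℕ) < k then x ⟨i, h⟩ else 0

theorem sum_pad {k m : ℕ} (hk : k ≤ m) (x y : Fin k → F) :
    ∑ i, pad m x i * pad m y i = ∑ i, x i * y i := by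
  classical
  refine ((Finset.sum_subset (Finset.subset_univ (Finset.univ.map (Fin.castLEEmb hk))) fun i _ hi => ?_).symm).trans ?_
  · have : ¬ (i : ℕ) < k := fun h => hi (Finset.mem_map.mpr ⟨⟨i, h⟩, Finset.mem_univ _, Fin.ext rfl⟩)
    simp [pad, this]
  · rw [Finset.sum_map]
    exact Finset.sum_congr rfl fun i _ => by simp [pad]

/-- Zero padding as a linear map. -/
def padL {k : ℕ} (m : ℕ) : (Fin k → F) →ₗ[F] (Fin m → F) where
  toFun := pad m
  map_add' x y := funext fun i => by simp only [pad, Pi.add_apply]; split_ifs <;> simp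
  map_smul' c x := funext fun i => by simp only [pad, Pi.smul_apply, RingHom.id_apply]; split_ifs <;> simp

theorem embeds_plus_plus {k m : ℕ} (hk : k ≤ m) : Embeds (Cfsg.quadFormPlus k F) (Cfsg.quadFormPlus m F) :=
  ⟨{ toFun := fun v => Sum.elim (padL m fun i => v (.inl i)) (padL m fun i => v (.inr i))
     map_add' := fun u v => by funext j; rcases j with j | j <;> simp only [Sum.elim_inl, Sum.elim_inr, Pi.add_apply] <;>
       rw [← Pi.add_apply (f := padL m _), ← map_add] <;> rfl
     map_smul' := fun c v => by funext j; rcases j with j | j <;>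
       simp only [Sum.elim_inl, Sum.elim_inr, Pi.smul_apply, RingHom.id_apply] <;>
       rw [← Pi.smul_apply c (padL m _), ← map_smul] <;> rfl },
   fun v => by
    simp only [Cfsg.quadFormPlus, LinearMap.coe_mk, AddHom.coe_mk, Sum.elim_inl, Sum.elim_inr]
    exact sum_pad (F := F) hk (fun i => v (.inl i)) (fun i => v (.inr i))⟩

theorem embeds_plus_minus {k m : ℕ} (hk : k ≤ m) (a c : F) :
    Embeds (Cfsg.quadFormPlus k F) (Cfsg.quadFormMinus m F a c) := by
  refine (embeds_plus_plus hk).trans ⟨
    { toFun := fun v => Sum.elim v 0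
      map_add' := fun u v => by funext j; rcases j with j | j <;> simp
      map_smul' := fun t v => by funext j; rcases j with j | j <;> simp }, fun v => ?_⟩
  simp [Cfsg.quadFormMinus, Cfsg.quadFormPlus]

theorem embeds_plus_odd {k m : ℕ} (hk : k ≤ m) : Embeds (Cfsg.quadFormPlus k F) (Cfsg.quadFormOdd m F) := by
  refine (embeds_plus_plus hk).trans ⟨
    { toFun := fun v => Sum.elim 0 v
      map_add' := fun u v => by funext j; rcases j with j | j <;> simp
      map_smul' := fun t v => by funext j; rcases j with j | j <;> simp }, fun v => ?_⟩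
  simp [Cfsg.quadFormOdd, Cfsg.quadFormPlus]

theorem exists_plane_change [Finite F] {a c ζ : F}
    (hac : ∀ z₁ z₂ : F, z₁ ^ 2 + a * z₁ * z₂ + c * z₂ ^ 2 = 0 → z₁ = 0 ∧ z₂ = 0)
    (hζ : ∀ z₁ z₂ : F, z₁ ^ 2 + 1 * z₁ * z₂ + ζ * z₂ ^ 2 = 0 → z₁ = 0 ∧ z₂ = 0) :
    ∃ s t : F, 2 * s + a * t = 1 ∧ s ^ 2 + a * s * t + c * t ^ 2 = ζ := by
  classical
  haveI := Fintype.ofFinite F
  by_cases h2 : (2 : F) = 0
  · have ha : a ≠ 0 := fun ha => by
      haveI : CharP F 2 := CharTwo.of_one_ne_zero_of_two_eq_zero one_ne_zero h2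
      obtain ⟨r, hr⟩ := FiniteField.isSquare_of_char_two (ringChar.eq F 2) c
      exact one_ne_zero (hac r 1 (by rw [ha, hr]; linear_combination (r * r) * h2)).2
    let f : F →+ F := AddMonoidHom.mk' (fun x => x ^ 2 + x) fun x y => by linear_combination (x * y) * h2
    have hker : Nat.card f.ker = 2 := by
      have : (f.ker : Set F) = {0, -1} := by
        ext x
        simp only [SetLike.mem_coe, AddMonoidHom.mem_ker, Set.mem_insert_iff, Set.mem_singleton_iff]
        show x ^ 2 + x = 0 ↔ _
        constructor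
        · intro h
          rcases mul_eq_zero.mp (show x * (x + 1) = 0 by linear_combination h) with h | h
          · exact Or.inl h
          · exact Or.inr (eq_neg_of_add_eq_zero_left h)
        · rintro (rfl | rfl) <;> ring
      rw [← SetLike.coe_sort_coe, Nat.card_coe_set_eq, this, Set.ncard_pair (fun h => one_ne_zero (neg_eq_zero.mp h.symm))]
    have hidx : f.range.index = 2 := by
      have h1 := f.range.card_mul_index
      have h2' := f.ker.card_mul_index
      rw [AddSubgroup.index_ker, hker] at h2'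
      rw [← h2', mul_comm 2] at h1
      exact Nat.eq_of_mul_eq_mul_left Nat.card_pos h1
    have hn : ∀ w : F, (∀ x, x ^ 2 + x + w ≠ 0) → w ∉ f.range := fun w hw hmem => by
      obtain ⟨x, hx⟩ := hmem
      have hx' : x ^ 2 + x = w := hx
      exact hw x (by linear_combination hx' + w * h2)
    have hz : ∀ x, x ^ 2 + x + ζ ≠ 0 := fun x h => one_ne_zero (hζ x 1 (by linear_combination h)).2
    have hc : ∀ x, x ^ 2 + x + c / a ^ 2 ≠ 0 := fun x h => one_ne_zero (hac (a * x) 1 (by
      have h' := congrArg (· * a ^ 2) h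
      simp only [zero_mul, add_mul, div_mul_cancel₀ c (pow_ne_zero 2 ha)] at h'
      linear_combination h')).2
    have hmem : ζ + c / a ^ 2 ∈ f.range :=
      (AddSubgroup.add_mem_iff_of_index_two hidx).mpr ⟨fun h => absurd h (hn _ hz), fun h => absurd h (hn _ hc)⟩
    obtain ⟨s, hs⟩ := hmem
    refine ⟨s, a⁻¹, by rw [h2, zero_mul, zero_add, mul_inv_cancel₀ ha], ?_⟩
    have hs' : s ^ 2 + s = ζ + c / a ^ 2 := hs
    field_simp at hs' ⊢
    linear_combination hs' + c * h2
  · have hns : ∀ a' c' : F, (∀ z₁ z₂ : F, z₁ ^ 2 + a' * z₁ * z₂ + c' * z₂ ^ 2 = 0 → z₁ = 0 ∧ z₂ = 0) →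
        ¬ IsSquare (a' ^ 2 - 4 * c') := by
      rintro a' c' h ⟨d, hd⟩
      refine one_ne_zero (h ((d - a') / 2) 1 ?_).2
      field_simp
      linear_combination -hd
    have h1 := hns a c hac
    have h2' := hns 1 ζ hζ
    have hne : a ^ 2 - 4 * c ≠ 0 := fun h => h1 (h ▸ IsSquare.zero)
    have hchar : ringChar F ≠ 2 := fun hc => h2 (by
      haveI := ringChar.charP F
      have := CharP.cast_eq_zero F (ringChar F)
      rw [hc] at this
      exact_mod_cast this)
    obtain ⟨t, ht⟩ : IsSquare ((1 ^ 2 - 4 * ζ) / (a ^ 2 - 4 * c)) := by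
      rw [← quadraticChar_one_iff_isSquare (div_ne_zero (fun h => h2' (by rw [h]; exact IsSquare.zero)) hne), div_eq_mul_inv,
        map_mul, quadraticChar_neg_one_iff_not_isSquare.mpr h2']
      rw [quadraticChar_neg_one_iff_not_isSquare.mpr (fun h => h1 (isSquare_inv.mp h))]
      norm_num
    refine ⟨(1 - a * t) / 2, t, by field_simp; ring, ?_⟩
    rw [div_eq_iff hne] at ht
    field_simp
    linear_combination ht

theorem embeds_minus_minus [Finite F] {k m : ℕ} (hk : k ≤ m) {a c ζ : F}
    (hac : ∀ z₁ z₂ : F, z₁ ^ 2 + a * z₁ * z₂ + c * z₂ ^ 2 = 0 → z₁ = 0 ∧ z₂ = 0)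
    (hζ : ∀ z₁ z₂ : F, z₁ ^ 2 + 1 * z₁ * z₂ + ζ * z₂ ^ 2 = 0 → z₁ = 0 ∧ z₂ = 0) :
    Embeds (Cfsg.quadFormMinus k F 1 ζ) (Cfsg.quadFormMinus m F a c) := by
  obtain ⟨s, t, h1, h2⟩ := exists_plane_change hac hζ
  refine ⟨{ toFun := fun v => Sum.elim (Sum.elim (pad m fun i => v (.inl (.inl i))) (pad m fun i => v (.inl (.inr i))))
              ![v (.inr 0) + s * v (.inr 1), t * v (.inr 1)]
            map_add' := fun u v => by
              funext j; rcases j with (j | j) | j
              · simp only [Sum.elim_inl, Pi.add_apply, pad]; split_ifs <;> simp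
              · simp only [Sum.elim_inl, Sum.elim_inr, Pi.add_apply, pad]; split_ifs <;> simp
              · fin_cases j <;> simp <;> ring
            map_smul' := fun e v => by
              funext j; rcases j with (j | j) | j
              · simp only [Sum.elim_inl, Pi.smul_apply, pad, RingHom.id_apply]; split_ifs <;> simp
              · simp only [Sum.elim_inl, Sum.elim_inr, Pi.smul_apply, pad, RingHom.id_apply]; split_ifs <;> simp
              · fin_cases j <;> simp <;> ring }, fun v => ?_⟩
  simp only [Cfsg.quadFormMinus, LinearMap.coe_mk, AddHom.coe_mk, Sum.elim_inl, Sum.elim_inr, Matrix.cons_val_zero,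
    Matrix.cons_val_one]
  rw [sum_pad hk]
  linear_combination (v (.inr 0) * v (.inr 1)) * h1 + (v (.inr 1) ^ 2) * h2

theorem embeds_minus_plus {k m : ℕ} (hk : k + 2 ≤ m) (ζ : F) :
    Embeds (Cfsg.quadFormMinus k F 1 ζ) (Cfsg.quadFormPlus m F) := by
  refine Embeds.trans ?_ (embeds_plus_plus hk)
  refine ⟨{ toFun := fun v => Sum.elim
              (Fin.append (fun i : Fin k => v (.inl (.inl i))) ![v (.inr 0), v (.inr 1)])
              (Fin.append (fun i : Fin k => v (.inl (.inr i))) ![v (.inr 0) + v (.inr 1), ζ * v (.inr 1)])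
            map_add' := fun u v => by
              funext j; rcases j with j | j <;>
                refine Fin.addCases (fun i => ?_) (fun i => ?_) j
              · simp
              · fin_cases i <;> simp
              · simp
              · fin_cases i <;> simp <;> ring
            map_smul' := fun e v => by
              funext j; rcases j with j | j <;>
                refine Fin.addCases (fun i => ?_) (fun i => ?_) j
              · simp
              · fin_cases i <;> simp
              · simp
              · fin_cases i <;> simp <;> ring }, fun v => ?_⟩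
  simp only [Cfsg.quadFormPlus, Cfsg.quadFormMinus, LinearMap.coe_mk, AddHom.coe_mk, Sum.elim_inl, Sum.elim_inr,
    Fin.sum_univ_add, Fin.append_left, Fin.append_right, Fin.sum_univ_two, Matrix.cons_val_zero, Matrix.cons_val_one]
  ring

theorem embeds_minus_odd (h2 : (2 : F) ≠ 0) {k m : ℕ} (hk : k + 1 ≤ m) (ζ : F) :
    Embeds (Cfsg.quadFormMinus k F 1 ζ) (Cfsg.quadFormOdd m F) := by
  refine Embeds.trans (Q := Cfsg.quadFormOdd (k + 1) F) ?_ ?_
  · refine ⟨{ toFun := fun v => Sum.elim (fun _ => v (.inr 0) + v (.inr 1) / 2) (Sum.elim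
              (Fin.append (fun i : Fin k => v (.inl (.inl i))) ![v (.inr 1)])
              (Fin.append (fun i : Fin k => v (.inl (.inr i))) ![(ζ - 1 / 4) * v (.inr 1)]))
              map_add' := fun u v => by
                funext j; rcases j with j | j | j
                · simp; ring
                · refine Fin.addCases (fun i => ?_) (fun i => ?_) j
                  · simp
                  · fin_cases i; simp
                · refine Fin.addCases (fun i => ?_) (fun i => ?_) j
                  · simp
                  · fin_cases i; simp; ring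
              map_smul' := fun e v => by
                funext j; rcases j with j | j | j
                · simp; ring
                · refine Fin.addCases (fun i => ?_) (fun i => ?_) j
                  · simp
                  · fin_cases i; simp
                · refine Fin.addCases (fun i => ?_) (fun i => ?_) j
                  · simp
                  · fin_cases i; simp; ring }, fun v => ?_⟩
    simp only [Cfsg.quadFormOdd, Cfsg.quadFormMinus, LinearMap.coe_mk, AddHom.coe_mk, Sum.elim_inl, Sum.elim_inr,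
      Fin.sum_univ_add, Fin.append_left, Fin.append_right, Fin.sum_univ_one, Matrix.cons_val_fin_one]
    have h4 : (4 : F) ≠ 0 := by rw [show (4 : F) = 2 * 2 by norm_num]; exact mul_ne_zero h2 h2
    field_simp
    ring
  · refine ⟨{ toFun := fun v => Sum.elim (fun u => v (.inl u)) (Sum.elim (pad m fun i => v (.inr (.inl i))) (pad m fun i => v (.inr (.inr i))))
              map_add' := fun u v => by
                funext j; rcases j with j | j | j
                · simp
                · simp only [Sum.elim_inl, Sum.elim_inr, Pi.add_apply, pad]; split_ifs <;> simp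
                · simp only [Sum.elim_inl, Sum.elim_inr, Pi.add_apply, pad]; split_ifs <;> simp
              map_smul' := fun e v => by
                funext j; rcases j with j | j | j
                · simp
                · simp only [Sum.elim_inl, Sum.elim_inr, Pi.smul_apply, pad, RingHom.id_apply]; split_ifs <;> simp
                · simp only [Sum.elim_inl, Sum.elim_inr, Pi.smul_apply, pad, RingHom.id_apply]; split_ifs <;> simp },
      fun v => ?_⟩
    simp only [Cfsg.quadFormOdd, LinearMap.coe_mk, AddHom.coe_mk, Sum.elim_inl, Sum.elim_inr]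
    rw [sum_pad hk]

end Cfsg.Agent.Lib.Linear.PrimeClasses
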