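import Cfsg.Agent.Lib.Linear.PrimeClasses.Roots

set_option linter.style.haveILetI false

/-!
# Counting classes of elements of prime order through multiplicity functions
-/

set_option autoImplicit false

universe u v

namespace Cfsg.Agent.Lib.Linear.PrimeClasses

open Polynomial

theorem card_subtype_sub_one {α : Type*} {S : α → Prop} [Finite {a // S a}] {a₀ : α} (h : S a₀) :
    Nat.card {a // S a ∧ a ≠ a₀} = Nat.card {a // S a} - 1 := by
  classical
  haveI : Fintype {a // S a} := Fintype.ofFinite _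
  have e : {a // S a ∧ a ≠ a₀} ≃ {x : {a // S a} // x ≠ ⟨a₀, h⟩} :=
    { toFun := fun a => ⟨⟨a.1, a.2.1⟩, fun he => a.2.2 (congrArg Subtype.val he)⟩
      invFun := fun x => ⟨x.1.1, x.1.2, fun he => x.2 (Subtype.ext he)⟩
      left_inv := fun _ => rfl
      right_inv := fun _ => rfl }
  rw [Nat.card_congr e, Nat.card_eq_fintype_card, Nat.card_eq_fintype_card, Fintype.card_subtype_compl,
    Fintype.card_subtype_eq]

variable {F : Type u} [Field F] {L : Type u} [Field L] [Algebra F L] [IsAlgClosed L]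
  {r : ℕ} [Fact r.Prime] {ζ : L}

theorem exists_mult (hζ : IsPrimitiveRoot ζ r) {d : ℕ} (A : Matrix (Fin d) (Fin d) F) (hA : A ^ r = 1) :
    ∃ m : ZMod r → ℕ, A.charpoly.map (algebraMap F L) = Pm ζ m ∧ ∑ x, m x = d := by
  obtain ⟨m, hm, hs⟩ := exists_Pm hζ (A.map (algebraMap F L))
    (by rw [← RingHom.mapMatrix_apply, ← map_pow, hA, map_one])
  exact ⟨m, by rw [← Matrix.charpoly_map, hm], hs⟩

theorem charpoly_one_map (d : ℕ) :
    (1 : Matrix (Fin d) (Fin d) F).charpoly.map (algebraMap F L) = Pm ζ (Pi.single (0 : ZMod r) d) := by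
  rw [Pm_single, Matrix.charpoly_one, Fintype.card_fin, Polynomial.map_pow, Polynomial.map_sub, map_X,
    Polynomial.map_one]

variable {G : Type v} [Group G]

/-- Classes of elements of order `r` correspond to the admissible multiplicity functions. -/
theorem card_classes [Finite G] (hζ : IsPrimitiveRoot ζ r) {d : ℕ} (ρ : G →* Matrix (Fin d) (Fin d) F)
    (w : (ZMod r)ˣ) (Ok : (ZMod r → ℕ) → Prop)
    (hconj : ∀ a b : G, a ^ r = 1 → b ^ r = 1 → (ρ a).charpoly = (ρ b).charpoly → IsConj a b)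
    (hinv : ∀ a : G, a ^ r = 1 → ∀ m : ZMod r → ℕ, (ρ a).charpoly.map (algebraMap F L) = Pm ζ m →
      ∑ x, m x = d → Inv w d m ∧ Ok m)
    (hreal : ∀ m : ZMod r → ℕ, Inv w d m → Ok m →
      ∃ a : G, a ^ r = 1 ∧ (ρ a).charpoly.map (algebraMap F L) = Pm ζ m) :
    Nat.card {C : ConjClasses G // ∃ g : G, ConjClasses.mk g = C ∧ orderOf g = r} =
      Nat.card {m : ZMod r → ℕ // Inv w d m ∧ Ok m} - 1 := by
  classical
  let S : ConjClasses G → Prop := fun C => ∃ g : G, ConjClasses.mk g = C ∧ g ^ r = 1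
  have h1 : ∀ C : ConjClasses G,
      (∃ g : G, ConjClasses.mk g = C ∧ orderOf g = r) ↔ S C ∧ C ≠ ConjClasses.mk 1 := by
    intro C
    constructor
    · rintro ⟨g, rfl, hg⟩
      refine ⟨⟨g, rfl, by rw [← hg]; exact pow_orderOf_eq_one g⟩, fun h => ?_⟩
      rw [ConjClasses.mk_eq_mk_iff_isConj, isConj_one_left] at h
      subst h
      rw [orderOf_one] at hg
      exact (Fact.out : r.Prime).one_lt.ne hg
    · rintro ⟨⟨g, rfl, hg⟩, hne⟩
      exact ⟨g, rfl, orderOf_eq_prime hg fun h => hne (by rw [h])⟩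
  rw [Nat.card_congr (Equiv.subtypeEquivRight h1), card_subtype_sub_one (S := S) ⟨1, rfl, one_pow r⟩]
  congr 1
  refine (Nat.card_congr (Equiv.ofBijective (fun m : {m : ZMod r → ℕ // Inv w d m ∧ Ok m} =>
    (⟨ConjClasses.mk (hreal m.1 m.2.1 m.2.2).choose, _, rfl, (hreal m.1 m.2.1 m.2.2).choose_spec.1⟩ :
      {C // S C})) ⟨fun m m' h => ?_, ?_⟩)).symm
  · have h' := congrArg Subtype.val h
    simp only at h'
    rw [ConjClasses.mk_eq_mk_iff_isConj] at h'
    obtain ⟨c, hc⟩ := isConj_iff.mp h'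
    have hcp : ∀ a b : G, (ρ (b * a * b⁻¹)).charpoly = (ρ a).charpoly := fun a b => by
      rw [map_mul, Matrix.charpoly_mul_comm, ← map_mul, inv_mul_cancel_left]
    refine Subtype.ext (Pm_inj hζ ?_)
    rw [← (hreal m.1 m.2.1 m.2.2).choose_spec.2, ← (hreal m'.1 m'.2.1 m'.2.2).choose_spec.2, ← hc, hcp]
  · rintro ⟨C, g, rfl, hg⟩
    obtain ⟨m, hm, hs⟩ := exists_mult (L := L) hζ (ρ g) (by rw [← map_pow, hg, map_one])
    obtain ⟨hi, hok⟩ := hinv g hg m hm hs
    refine ⟨⟨m, hi, hok⟩, Subtype.ext (ConjClasses.mk_eq_mk_iff_isConj.mpr (hconj _ _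
      (hreal m hi hok).choose_spec.1 hg ?_))⟩
    exact Polynomial.map_injective _ (algebraMap F L).injective
      ((hreal m hi hok).choose_spec.2.trans hm.symm)

variable [Fintype F]

theorem inv_of_charpoly (hζ : IsPrimitiveRoot ζ r) (hr : (r : L) ≠ 0) {uq : (ZMod r)ˣ}
    (huq : (uq : ZMod r) = (Fintype.card F : ZMod r)) (w : (ZMod r)ˣ)
    (hw : (w : ZMod r) = (uq : ZMod r) ∨ (w : ZMod r) = -(uq : ZMod r))
    {d : ℕ} (A A' : Matrix (Fin d) (Fin d) F) (hA : A ^ r = 1) (hAA : A * A' = 1)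
    (hc : A'.charpoly = A.charpoly) {m : ZMod r → ℕ} (hm : A.charpoly.map (algebraMap F L) = Pm ζ m)
    (hs : ∑ x, m x = d) : Inv w d m := by
  have hq : ∀ x, m ((uq : ZMod r) * x) = m x := Pm_frob_invariant hζ huq m A.charpoly hm
  have hmA : (A.map (algebraMap F L)).charpoly = Pm ζ m := by rw [Matrix.charpoly_map]; exact hm
  have hneg : ∀ x, m (-x) = m x := by
    have h1 := charpoly_inv hζ hr (A.map (algebraMap F L)) (A'.map (algebraMap F L))
      (by rw [← RingHom.mapMatrix_apply, ← map_pow, hA, map_one])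
      (by rw [← Matrix.map_mul, hAA, Matrix.map_one _ (map_zero _) (map_one _)]) m hmA
    rw [Matrix.charpoly_map, hc, hm] at h1
    exact fun x => (congrFun (Pm_inj hζ h1) x).symm
  refine ⟨hs, fun x => ?_⟩
  rcases hw with hw | hw
  · rw [hw]; exact hq x
  · rw [hw, neg_mul, hneg]; exact hq x

theorem charpoly_inv_of_form {d : Type*} [Fintype d] [DecidableEq d] (J A A' : Matrix d d F) (hJ : IsUnit J)
    (hA : A.transpose * J * A = J) (hAA : A * A' = 1) : A'.charpoly = A.charpoly := by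
  obtain ⟨c, rfl⟩ := hJ
  have h1 : (c : Matrix d d F) * A' = A.transpose * c :=
    calc (c : Matrix d d F) * A' = A.transpose * c * A * A' := by rw [hA]
      _ = A.transpose * c := by rw [mul_assoc, hAA, mul_one]
  have h2 : A' = (↑c⁻¹ : Matrix d d F) * A.transpose * c := by
    rw [mul_assoc, ← h1, ← mul_assoc, Units.inv_mul, one_mul]
  rw [h2, Matrix.coe_units_inv, Matrix.charpoly_units_conj', Matrix.charpoly_transpose]

/-- The generator of the group spanned by `q` and `-1`. -/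
theorem exists_gen (hr2 : r ≠ 2) (uq : (ZMod r)ˣ) :
    ∃ w : (ZMod r)ˣ, ((w : ZMod r) = (uq : ZMod r) ∨ (w : ZMod r) = -(uq : ZMod r)) ∧
      (∃ k : ℕ, uq = w ^ k) ∧ (∃ k : ℕ, (-1 : (ZMod r)ˣ) = w ^ k) ∧
      orderOf w = (if Odd (orderOf uq) then 2 * orderOf uq else orderOf uq) := by
  by_cases h : Odd (orderOf uq)
  · refine ⟨-uq, Or.inr (Units.val_neg _), ⟨orderOf uq + 1, ?_⟩, ⟨orderOf uq, ?_⟩, ?_⟩
    · rw [(h.add_odd odd_one).neg_pow, pow_succ, pow_orderOf_eq_one, one_mul]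
    · rw [h.neg_pow, pow_orderOf_eq_one]
    · rw [if_pos h, orderOf_neg_of_odd hr2 h]
  · exact ⟨uq, Or.inl rfl, ⟨1, (pow_one _).symm⟩,
      ⟨_, neg_one_mem_of_even (Nat.not_odd_iff_even.mp h)⟩, by rw [if_neg h]⟩

end Cfsg.Agent.Lib.Linear.PrimeClasses
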