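import Cfsg.Agent.Lib.Linear.PrimeClasses.Compose
import Cfsg.Agent.Lib.Linear.PrimeClasses.Classes

set_option linter.style.haveILetI false

/-!
# Realising characteristic polynomials in general linear groups
-/

set_option autoImplicit false

universe u

namespace Cfsg.Agent.Lib.Linear.PrimeClasses

open Polynomial

/-- A matrix of order dividing `r` has characteristic polynomial `P`. -/
def LinReal {F : Type u} [Field F] (r : ℕ) (P : F[X]) : Prop :=
  ∃ (ι : Type) (_ : Fintype ι) (_ : DecidableEq ι) (A : Matrix ι ι F), A ^ r = 1 ∧ A.charpoly = P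

theorem LinReal.mul {F : Type u} [Field F] {r : ℕ} {P P' : F[X]} (h : LinReal r P) (h' : LinReal r P') :
    LinReal r (P * P') := by
  obtain ⟨ι, _, _, A, hAr, hAp⟩ := h
  obtain ⟨κ, _, _, A', hAr', hAp'⟩ := h'
  refine ⟨ι ⊕ κ, inferInstance, inferInstance, Matrix.fromBlocks A 0 0 A', ?_, ?_⟩
  · rw [fromBlocks_pow, hAr, hAr', Matrix.fromBlocks_one]
  · rw [Matrix.charpoly_fromBlocks_zero₁₂, hAp, hAp']

theorem LinReal.pow_X_sub_one {F : Type u} [Field F] {r : ℕ} (a : ℕ) : LinReal r ((X - 1 : F[X]) ^ a) :=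
  ⟨Fin a, inferInstance, inferInstance, 1, one_pow r, by rw [Matrix.charpoly_one, Fintype.card_fin]⟩

variable {F : Type u} [Field F] [Fintype F] {L : Type u} [Field L] [Algebra F L] [IsAlgClosed L]
  {r : ℕ} [Fact r.Prime] {ζ : L}

/-- Every invariant multiplicity function is the root pattern of a matrix of order dividing `r`. -/
theorem exists_linear (hζ : IsPrimitiveRoot ζ r) {uq : (ZMod r)ˣ}
    (huq : (uq : ZMod r) = (Fintype.card F : ZMod r)) (w : (ZMod r)ˣ) (hwq : ∃ k : ℕ, uq = w ^ k)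
    {n : ℕ} {m : ZMod r → ℕ} (hm : Inv w n m) :
    ∃ A : Matrix (Fin n) (Fin n) F, A ^ r = 1 ∧ A.charpoly.map (algebraMap F L) = Pm ζ m := by
  classical
  have hq : ∀ {n' : ℕ} {f : ZMod r → ℕ}, Inv w n' f → ∀ x, f ((uq : ZMod r) * x) = f x := fun hf x => by
    obtain ⟨k, hk⟩ := hwq
    rw [hk, Units.val_pow_eq_pow_val]
    exact inv_pow hf k x
  let m' : ZMod r → ℕ := fun x => if x = 0 then 0 else m x
  have hm' : Inv w (∑ x, m' x) m' := ⟨rfl, fun x => by
    simp only [m', mul_eq_zero, Units.ne_zero, false_or]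
    rw [hm.2]⟩
  obtain ⟨P', -, hP'⟩ := exists_descent (F := F) hζ huq m' (hq hm')
  have h' : LinReal r P' := by
    refine real_induction (F := F) (LinReal r) ?_ (fun _ _ => LinReal.mul) hζ huq w hwq
      (fun c g hgm hg hwc hc0 => ?_) _ m' hm' (if_pos rfl) P' hP'
    · simpa using LinReal.pow_X_sub_one (F := F) (r := r) 0
    · obtain ⟨d, e, A, -, hA, hAp⟩ := exists_matrix_data hg hζ hgm
      exact ⟨Fin d, inferInstance, inferInstance, A, hA, hAp⟩
  obtain ⟨ι, _, _, A, hA, hAp⟩ := h'.mul (LinReal.pow_X_sub_one (m 0))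
  have hmap : A.charpoly.map (algebraMap F L) = Pm ζ m := by
    rw [hAp, Polynomial.map_mul, hP', Polynomial.map_pow, Polynomial.map_sub, map_X, Polynomial.map_one,
      ← Pm_single (r := r) ζ (m 0), ← Pm_add]
    congr 1
    funext x
    by_cases hx : x = 0
    · subst hx; simp [m']
    · simp [m', hx]
  have hcard : Fintype.card ι = Fintype.card (Fin n) := by
    rw [← Matrix.charpoly_natDegree_eq_dim A, ← Polynomial.natDegree_map (algebraMap F L), hmap, Pm_natDegree,
      hm.1, Fintype.card_fin]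
  let R := Matrix.reindexAlgEquiv F F (Fintype.equivOfCardEq hcard)
  exact ⟨R A, by rw [← map_pow, hA, map_one], by rw [Matrix.reindexAlgEquiv_apply, Matrix.charpoly_reindex, hmap]⟩

end Cfsg.Agent.Lib.Linear.PrimeClasses
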