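import Cfsg.Agent.Lib.Linear.PrimeClasses.Compose
import Cfsg.Agent.Lib.Linear.PrimeClasses.Classes
import Cfsg.Agent.Lib.Linear.SymplecticDecomp

set_option linter.style.haveILetI false

/-!
# Realising characteristic polynomials in symplectic groups
-/

set_option autoImplicit false

universe u

namespace Cfsg.Agent.Lib.Linear.PrimeClasses

open Polynomial
open scoped Matrix

variable {F : Type u} [Field F] {r : ℕ}

theorem sympJ_alt {m : ℕ} (v : Fin m ⊕ Fin m → F) : v ⬝ᵥ (Matrix.J (Fin m) F *ᵥ v) = 0 := by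
  simp only [Matrix.J, dotProduct, Matrix.fromBlocks_mulVec, Fintype.sum_sum_type, Sum.elim_inl, Sum.elim_inr,
    Matrix.zero_mulVec, Matrix.neg_mulVec, Matrix.one_mulVec, zero_add, add_zero, Pi.neg_apply,
    Function.comp_apply, mul_neg, Finset.sum_neg_distrib]
  rw [Finset.sum_congr rfl (fun i _ => mul_comm (v (Sum.inl i)) (v (Sum.inr i)))]
  ring

theorem isUnit_sympJ (m : ℕ) : IsUnit (Matrix.J (Fin m) F) :=
  IsUnit.of_mul_eq_one (-(Matrix.J (Fin m) F)) (by rw [mul_neg, Matrix.J_squared, neg_neg])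

theorem AltReal.pow_X_sub_one (a : ℕ) : AltReal r ((X - 1 : F[X]) ^ (a + a)) :=
  ⟨Fin a ⊕ Fin a, inferInstance, inferInstance, Matrix.J (Fin a) F, 1, sympJ_alt, isUnit_sympJ a,
    by rw [Matrix.transpose_one, one_mul, mul_one], one_pow r, by
      rw [Matrix.charpoly_one, Fintype.card_sum, Fintype.card_fin]⟩

theorem exists_congr_sympJ {m : ℕ} (J : Matrix (Fin m ⊕ Fin m) (Fin m ⊕ Fin m) F)
    (hJ : ∀ v, v ⬝ᵥ (J *ᵥ v) = 0) (hJu : IsUnit J) :
    ∃ T : Matrix (Fin m ⊕ Fin m) (Fin m ⊕ Fin m) F, IsUnit T ∧ Tᵀ * J * T = Matrix.J (Fin m) F := by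
  classical
  let V := Fin m ⊕ Fin m → F
  let B₁ : LinearMap.BilinForm F V := Matrix.toBilin' (Matrix.J (Fin m) F)
  let B₂ : LinearMap.BilinForm F V := Matrix.toBilin' J
  let P : LinearMap.BilinForm F (V × V) :=
    B₁.compl₁₂ (LinearMap.fst F _ _) (LinearMap.fst F _ _) + B₂.compl₁₂ (LinearMap.snd F _ _) (LinearMap.snd F _ _)
  have hP : ∀ x y, P x y = x.1 ⬝ᵥ (Matrix.J (Fin m) F *ᵥ y.1) + x.2 ⬝ᵥ (J *ᵥ y.2) := fun x y => by
    show B₁ x.1 y.1 + B₂ x.2 y.2 = _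
    rw [Matrix.toBilin'_apply', Matrix.toBilin'_apply']
  have hA : P.IsAlt := fun x => by rw [hP, sympJ_alt, hJ, add_zero]
  let X' : Submodule F (V × V) := (⊤ : Submodule F V).map (LinearMap.inl F V V)
  let Y' : Submodule F (V × V) := (⊤ : Submodule F V).map (LinearMap.inr F V V)
  have nd : ∀ (M : Matrix (Fin m ⊕ Fin m) (Fin m ⊕ Fin m) F), IsUnit M → ∀ x : V, x ≠ 0 → ∃ y, x ⬝ᵥ (M *ᵥ y) ≠ 0 := by
    intro M hM x hx0
    by_contra h
    push Not at h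
    obtain ⟨Mi, hMi⟩ := hM.exists_right_inv
    refine hx0 (funext fun i => ?_)
    have h' := h (Mi *ᵥ Pi.single i 1)
    rw [Matrix.mulVec_mulVec, hMi, Matrix.one_mulVec, dotProduct_single, mul_one] at h'
    exact h'
  have hX : Cfsg.Lib.Linear.Symp.NondegOn P X' := by
    rintro _ ⟨x, -, rfl⟩ hne
    obtain ⟨y, hy⟩ := nd _ (isUnit_sympJ m) x (fun h => hne (by rw [h, map_zero]))
    exact ⟨_, ⟨y, trivial, rfl⟩, by simpa [hP] using hy⟩
  have hY : Cfsg.Lib.Linear.Symp.NondegOn P Y' := by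
    rintro _ ⟨x, -, rfl⟩ hne
    obtain ⟨y, hy⟩ := nd _ hJu x (fun h => hne (by rw [h, map_zero]))
    exact ⟨_, ⟨y, trivial, rfl⟩, by simpa [hP] using hy⟩
  have hdim : Module.finrank F X' ≤ Module.finrank F Y' := by
    rw [← (Submodule.equivMapOfInjective _ LinearMap.inl_injective (⊤ : Submodule F V)).finrank_eq,
      ← (Submodule.equivMapOfInjective _ LinearMap.inr_injective (⊤ : Submodule F V)).finrank_eq]
  obtain ⟨φ, hφY, hφ⟩ := Cfsg.Lib.Linear.Symp.exists_isometry_between hA _ X' Y' le_rfl hX hY hdim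
  let into : V →ₗ[F] X' := (LinearMap.inl F V V).codRestrict X' (fun y => ⟨y, trivial, rfl⟩)
  let T : V →ₗ[F] V := (LinearMap.snd F _ _).comp (φ.comp into)
  have hT : ∀ u v, (T u) ⬝ᵥ (J *ᵥ T v) = u ⬝ᵥ (Matrix.J (Fin m) F *ᵥ v) := fun u v => by
    have h := hφ (into u) (into v)
    obtain ⟨a, -, ha⟩ := hφY (into u)
    obtain ⟨b, -, hb⟩ := hφY (into v)
    rw [hP, hP, ← ha, ← hb] at h
    have e1 : T u = a := by show (φ (into u)).2 = a; rw [← ha]; rfl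
    have e2 : T v = b := by show (φ (into v)).2 = b; rw [← hb]; rfl
    rw [e1, e2]
    have h' : (0 : V) ⬝ᵥ (Matrix.J (Fin m) F *ᵥ (0 : V)) + a ⬝ᵥ (J *ᵥ b) =
        u ⬝ᵥ (Matrix.J (Fin m) F *ᵥ v) + (0 : V) ⬝ᵥ (J *ᵥ (0 : V)) := h
    simpa using h'
  have key : (LinearMap.toMatrix' T)ᵀ * J * LinearMap.toMatrix' T = Matrix.J (Fin m) F := by
    refine Matrix.ext_iff_mulVec.mpr fun v => dotProduct_eq _ _ fun u => ?_
    rw [dotProduct_comm, dotProduct_comm _ u, ← Matrix.mulVec_mulVec, ← Matrix.mulVec_mulVec,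
      Matrix.dotProduct_mulVec, Matrix.vecMul_transpose, LinearMap.toMatrix'_mulVec, LinearMap.toMatrix'_mulVec, hT]
  refine ⟨_, (Matrix.isUnit_iff_isUnit_det _).mpr ?_, key⟩
  have h := (Matrix.isUnit_iff_isUnit_det _).mp (key.symm ▸ isUnit_sympJ (F := F) m)
  rw [Matrix.det_mul] at h
  exact isUnit_of_mul_isUnit_right h

theorem exists_sp_of_altReal {m : ℕ} {P : F[X]} (h : AltReal r P) (hdeg : P.natDegree = m + m) :
    ∃ g : Matrix.symplecticGroup (Fin m) F, g ^ r = 1 ∧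
      (g : Matrix (Fin m ⊕ Fin m) (Fin m ⊕ Fin m) F).charpoly = P := by
  classical
  obtain ⟨ι, _, _, J, A, hJ, hJu, hA, hAr, hAp⟩ := h
  have hcard : Fintype.card ι = Fintype.card (Fin m ⊕ Fin m) := by
    rw [Fintype.card_sum, Fintype.card_fin, ← hdeg, ← hAp, Matrix.charpoly_natDegree_eq_dim]
  let e : ι ≃ Fin m ⊕ Fin m := Fintype.equivOfCardEq hcard
  let R := Matrix.reindexAlgEquiv F F e
  have hRt : ∀ M : Matrix ι ι F, R Mᵀ = (R M)ᵀ := fun M => rfl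
  obtain ⟨T, hTu, hT⟩ := exists_congr_sympJ (R J) (fun v => by
    have : v = (v ∘ e) ∘ e.symm := by ext; simp
    rw [this]
    show ((v ∘ e) ∘ e.symm) ⬝ᵥ ((Matrix.submatrix J e.symm e.symm) *ᵥ ((v ∘ e) ∘ e.symm)) = 0
    rw [Matrix.submatrix_mulVec_equiv, comp_equiv_symm_dotProduct, Equiv.symm_symm]
    simp only [Function.comp_assoc, Equiv.symm_comp_self, Equiv.self_comp_symm, Function.comp_id]
    exact hJ _) (hJu.map R)
  obtain ⟨T, rfl⟩ := hTu
  set g : Matrix (Fin m ⊕ Fin m) (Fin m ⊕ Fin m) F :=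
    (↑T⁻¹ : Matrix (Fin m ⊕ Fin m) (Fin m ⊕ Fin m) F) * R A * (T : Matrix (Fin m ⊕ Fin m) (Fin m ⊕ Fin m) F) with hg
  have hgT : (T : Matrix (Fin m ⊕ Fin m) (Fin m ⊕ Fin m) F) * g = R A * T := by
    rw [hg, ← mul_assoc, ← mul_assoc, Units.mul_inv, one_mul]
  have hmem : g ∈ Matrix.symplecticGroup (Fin m) F := by
    rw [SymplecticGroup.mem_iff', ← hT]
    calc gᵀ * ((↑T : Matrix (Fin m ⊕ Fin m) (Fin m ⊕ Fin m) F)ᵀ * R J * ↑T) * g
        = ((↑T : Matrix (Fin m ⊕ Fin m) (Fin m ⊕ Fin m) F) * g)ᵀ * R J * (↑T * g) := by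
          simp only [Matrix.transpose_mul, mul_assoc]
      _ = (↑T : Matrix (Fin m ⊕ Fin m) (Fin m ⊕ Fin m) F)ᵀ * ((R A)ᵀ * R J * R A) * ↑T := by
          rw [hgT]; simp only [Matrix.transpose_mul, mul_assoc]
      _ = _ := by rw [← hRt, ← map_mul, ← map_mul, hA]
  refine ⟨⟨g, hmem⟩, Subtype.ext ?_, ?_⟩
  · show g ^ r = 1
    rw [hg, Units.conj_pow' T, ← map_pow, hAr, map_one, mul_one, Units.inv_mul]
  · show g.charpoly = P
    rw [hg, Matrix.coe_units_inv, Matrix.charpoly_units_conj', Matrix.reindexAlgEquiv_apply,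
      Matrix.charpoly_reindex, hAp]

end Cfsg.Agent.Lib.Linear.PrimeClasses
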