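import Cfsg.Agent.Lib.Linear.PrimeClasses.Roots
import Cfsg.Agent.Lib.Linear.AutPO.Std
import Cfsg.Agent.Lib.Linear.OrthOrderStd

set_option linter.style.haveILetI false

/-!
# Which spaces admit fixed-point-free isometries of prime order
-/

set_option autoImplicit false

universe u

namespace Cfsg.Agent.Lib.Linear.PrimeClasses

open Polynomial
open scoped Matrix
open Cfsg.Lib.Linear.Orth

variable {F : Type u} [Field F] [Fintype F] {ι : Type} [Fintype ι] [DecidableEq ι]
  {Q : (ι → F) → F} {B : LinearMap.BilinForm F (ι → F)} {r : ℕ} [Fact r.Prime]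

/-- The singular vectors of a space with a fixed-point-free isometry of order `r` number `1` modulo `r`. -/
theorem singular_modEq (C : Space Q B) (g : ↥(Cfsg.isometryGroup F Q)) (hg : g ^ r = 1)
    (hfix : ∀ v, (g : GL ι F).val *ᵥ v = v → v = 0) : Nat.card {v // Q v = 0} ≡ 1 [MOD r] := by
  classical
  letI : SMul (Subgroup.zpowers g) {v : ι → F // Q v = 0} := ⟨fun h v =>
    ⟨((h : ↥(Cfsg.isometryGroup F Q)) : GL ι F).val *ᵥ v.1, by rw [mem_iso.mp (h : ↥(Cfsg.isometryGroup F Q)).2]; exact v.2⟩⟩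
  letI : MulAction (Subgroup.zpowers g) {v : ι → F // Q v = 0} :=
    { one_smul := fun v => Subtype.ext (by
        show ((1 : ↥(Cfsg.isometryGroup F Q)) : GL ι F).val *ᵥ v.1 = v.1
        rw [Subgroup.coe_one, Units.val_one, Matrix.one_mulVec])
      mul_smul := fun a b v => Subtype.ext (mul_act _ _ _) }
  have hp : IsPGroup r (Subgroup.zpowers g) := fun h => ⟨1, Subtype.ext (by
    obtain ⟨k, hk⟩ := Subgroup.mem_zpowers_iff.mp h.2
    rw [pow_one, SubmonoidClass.coe_pow, ← hk, ← zpow_natCast, ← zpow_mul, mul_comm, zpow_mul, zpow_natCast, hg,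
      one_zpow]; rfl)⟩
  have h1 := hp.card_modEq_card_fixedPoints {v : ι → F // Q v = 0}
  have h2 : Nat.card (MulAction.fixedPoints (Subgroup.zpowers g) {v : ι → F // Q v = 0}) = 1 := by
    rw [Nat.card_eq_one_iff_unique]
    refine ⟨⟨fun a b => ?_⟩, ⟨⟨⟨0, C.zero⟩, fun h => Subtype.ext (Matrix.mulVec_zero _)⟩⟩⟩
    have ha := hfix _ (congrArg Subtype.val (a.2 ⟨g, Subgroup.mem_zpowers g⟩))
    have hb := hfix _ (congrArg Subtype.val (b.2 ⟨g, Subgroup.mem_zpowers g⟩))
    exact Subtype.ext (Subtype.ext (ha.trans hb.symm))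
  rwa [h2] at h1

theorem zmod_eq_zero_of_modEq {N : ℕ} {a b : ℤ} (h : N ≡ 1 [MOD r]) (hN : (N : ℤ) = a * b + 1) :
    (a : ZMod r) * (b : ZMod r) = 0 := by
  have h1 : ((N : ℤ) : ZMod r) = 1 := by
    rw [Int.cast_natCast, ← Nat.cast_one]; exact (ZMod.natCast_eq_natCast_iff N 1 r).mpr h
  rw [hN, Int.cast_add, Int.cast_mul, Int.cast_one] at h1
  linear_combination h1

theorem two_ne_zero_zmod (hr2 : r ≠ 2) : (2 : ZMod r) ≠ 0 := by
  intro h
  have h3 : ((2 : ℕ) : ZMod r) = 0 := h
  rw [ZMod.natCast_eq_zero_iff] at h3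
  exact hr2 ((Nat.prime_dvd_prime_iff_eq Fact.out Nat.prime_two).mp h3)

/-- A plus-type space: the field size has no odd power of `-1`. -/
theorem no_fixed_plus (hr2 : r ≠ 2) {uq : (ZMod r)ˣ} (huq : (uq : ZMod r) = (Fintype.card F : ZMod r))
    (hne : (uq : ZMod r) ≠ 1) {m : ℕ} (hm : (uq : ZMod r) ^ m = -1) (g : ↥(Cfsg.isometryGroup F (Cfsg.quadFormPlus m F)))
    (hg : g ^ r = 1) (hfix : ∀ v, (g : GL (Fin m ⊕ Fin m) F).val *ᵥ v = v → v = 0) : False := by
  obtain ⟨B, C⟩ := exists_space_plus (F := F) m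
  have hm0 : m ≠ 0 := fun h => by
    subst h
    rw [pow_zero] at hm
    exact two_ne_zero_zmod hr2 (by linear_combination hm)
  have h := zmod_eq_zero_of_modEq (singular_modEq C g hg hfix) ((counts_plus (F := F) m).1 hm0)
  push_cast [Nat.card_eq_fintype_card] at h
  rw [← huq, hm] at h
  have h2 : (uq : ZMod r) * (uq : ZMod r) ^ (0 + m - 1) = -1 := by
    rw [← pow_succ', show 0 + m - 1 + 1 = m by omega, hm]
  rcases mul_eq_zero.mp h with h | h
  · exact two_ne_zero_zmod hr2 (by linear_combination -h)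
  · refine hne ?_
    linear_combination (uq : ZMod r) * h - h2

/-- A minus-type space: the field size has no even power of `-1`. -/
theorem no_fixed_minus (hr2 : r ≠ 2) {uq : (ZMod r)ˣ} (huq : (uq : ZMod r) = (Fintype.card F : ZMod r))
    (hne : (uq : ZMod r) ≠ 1) {a c : F}
    (hac : ∀ z₁ z₂ : F, z₁ ^ 2 + a * z₁ * z₂ + c * z₂ ^ 2 = 0 → z₁ = 0 ∧ z₂ = 0) {m : ℕ}
    (hm : (uq : ZMod r) ^ (m + 1) = 1) (g : ↥(Cfsg.isometryGroup F (Cfsg.quadFormMinus m F a c)))
    (hg : g ^ r = 1) (hfix : ∀ v, (g : GL ((Fin m ⊕ Fin m) ⊕ Fin 2) F).val *ᵥ v = v → v = 0) : False := by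
  obtain ⟨B, C⟩ := exists_space_minus m a c hac
  have hm0 : m ≠ 0 := fun h => hne (by subst h; simpa using hm)
  have h := zmod_eq_zero_of_modEq (singular_modEq C g hg hfix) ((counts_minus (F := F) m hac).1 hm0)
  push_cast [Nat.card_eq_fintype_card] at h
  rw [← huq, show 2 + m - 1 = m + 1 by omega, hm] at h
  rcases mul_eq_zero.mp h with h | h
  · refine hne ?_
    rw [pow_succ'] at hm
    linear_combination hm - (uq : ZMod r) * h
  · exact two_ne_zero_zmod hr2 (by linear_combination h)

variable {L : Type u} [Field L] [Algebra F L] [IsAlgClosed L] {ζ : L}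

/-- When the field size has odd order modulo `r`, a fixed-point-free isometry of order `r` has two complementary
totally singular invariant subspaces. -/
theorem exists_halves (C : Space Q B) (hζ : IsPrimitiveRoot ζ r) (hr2 : r ≠ 2) {uq : (ZMod r)ˣ}
    (huq : (uq : ZMod r) = (Fintype.card F : ZMod r)) (hodd : Odd (orderOf uq))
    (g : ↥(Cfsg.isometryGroup F Q)) (hg : g ^ r = 1) (hfix : ∀ v, (g : GL ι F).val *ᵥ v = v → v = 0) :
    ∃ W₁ W₂ : Submodule F (ι → F), (∀ v ∈ W₁, Q v = 0) ∧ (∀ v ∈ W₂, Q v = 0) ∧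
      Fintype.card ι ≤ Module.finrank F W₁ + Module.finrank F W₂ := by
  classical
  let orb : ZMod r → Finset ℕ := fun x =>
    (Finset.range (orderOf uq)).image fun k => ((uq : ZMod r) ^ k * x).val
  have horb : ∀ x, orb ((uq : ZMod r) * x) = orb x := by
    intro x
    have key : ∀ k : ℕ, ((uq : ZMod r) ^ k * x).val ∈ orb x := fun k =>
      Finset.mem_image.mpr ⟨k % orderOf uq, Finset.mem_range.mpr (Nat.mod_lt _ (orderOf_pos uq)), by
        rw [← Units.val_pow_eq_pow_val, pow_mod_orderOf, Units.val_pow_eq_pow_val]⟩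
    refine Finset.Subset.antisymm (fun y hy => ?_) (fun y hy => ?_)
    · obtain ⟨k, -, rfl⟩ := Finset.mem_image.mp hy
      rw [← mul_assoc, ← pow_succ]
      exact key _
    · obtain ⟨k, -, rfl⟩ := Finset.mem_image.mp hy
      refine Finset.mem_image.mpr ⟨(k + (orderOf uq - 1)) % orderOf uq, Finset.mem_range.mpr (Nat.mod_lt _ (orderOf_pos uq)), ?_⟩
      rw [← Units.val_pow_eq_pow_val, pow_mod_orderOf, Units.val_pow_eq_pow_val, ← mul_assoc, ← pow_succ,
        add_assoc, Nat.sub_add_cancel (orderOf_pos uq), pow_add, ← Units.val_pow_eq_pow_val uq (orderOf uq),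
        pow_orderOf_eq_one, Units.val_one, mul_one]
  have hne : ∀ x, (orb x).Nonempty := fun x =>
    ⟨_, Finset.mem_image_of_mem _ (Finset.mem_range.mpr (orderOf_pos uq))⟩
  let f : ZMod r → ℕ := fun x => (orb x).min' (hne x)
  have hf : ∀ x, f ((uq : ZMod r) * x) = f x := fun x => by simp only [f, horb]
  have hfne : ∀ x, x ≠ 0 → f x ≠ f (-x) := by
    intro x hx h
    obtain ⟨k, -, hk⟩ := Finset.mem_image.mp ((orb x).min'_mem (hne x))
    obtain ⟨l, -, hl⟩ := Finset.mem_image.mp ((orb (-x)).min'_mem (hne (-x)))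
    have h1 : (uq : ZMod r) ^ k * x = (uq : ZMod r) ^ l * -x := ZMod.val_injective r (by rw [hk, hl]; exact h)
    have h2 : (uq : ZMod r) ^ k = -(uq : ZMod r) ^ l := mul_right_cancel₀ hx (by rw [h1]; ring)
    have h3 := congrArg (· ^ orderOf uq) h2
    simp only [hodd.neg_pow] at h3
    rw [← pow_mul, ← pow_mul, mul_comm k, mul_comm l, pow_mul, pow_mul, ← Units.val_pow_eq_pow_val,
      pow_orderOf_eq_one, Units.val_one, one_pow, one_pow] at h3
    exact two_ne_zero_zmod hr2 (by linear_combination h3)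
  let i₁ : ZMod r → ℕ := fun x => if f x < f (-x) then 1 else 0
  let i₂ : ZMod r → ℕ := fun x => if f (-x) < f x then 1 else 0
  have hi₁ : ∀ x, i₁ ((uq : ZMod r) * x) = i₁ x := fun x => by simp only [i₁, ← mul_neg, hf]
  have hi₂ : ∀ x, i₂ ((uq : ZMod r) * x) = i₂ x := fun x => by simp only [i₂, ← mul_neg, hf]
  obtain ⟨f₁, hf₁m, hf₁⟩ := exists_descent (F := F) hζ huq i₁ hi₁
  obtain ⟨f₂, hf₂m, hf₂⟩ := exists_descent (F := F) hζ huq i₂ hi₂
  set A : Matrix ι ι F := ((g : GL ι F) : Matrix ι ι F) with hAdef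
  have hAr : A ^ r = 1 := by rw [hAdef, ← Units.val_pow_eq_pow_val, ← SubmonoidClass.coe_pow, hg]; rfl
  set T : Module.End F (ι → F) := Matrix.toLinAlgEquiv' A with hT
  have hTa : ∀ v, T v = A *ᵥ v := fun v => Matrix.toLinAlgEquiv'_apply _ _
  have hTr : T ^ r = 1 := by rw [hT, ← map_pow, hAr, map_one]
  -- the product of the two halves annihilates `T`
  have hann : aeval T (f₁ * f₂) = 0 := by
    have hdvd : ((f₁ * f₂) * (X - 1)).map (algebraMap F L) ∣ (X ^ r - 1 : L[X]) := by
      rw [Polynomial.map_mul, Polynomial.map_mul, hf₁, hf₂, Polynomial.map_sub, map_X, Polynomial.map_one,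
        ← pow_one (X - 1 : L[X]), ← Pm_single (r := r) ζ 1, ← Pm_add, ← Pm_add, Pm]
      refine Finset.prod_dvd_of_coprime (fun a _ b _ hab => IsCoprime.pow
        (isCoprime_X_sub_C_of_isUnit_sub (sub_ne_zero.mpr fun h => hab (zp_inj hζ h)).isUnit)) fun x _ => ?_
      have hle : (i₁ + i₂ + Pi.single (0 : ZMod r) 1 : ZMod r → ℕ) x ≤ 1 := by
        simp only [Pi.add_apply, i₁, i₂]
        by_cases hx : x = 0
        · subst hx; simp
        · rw [Pi.single_eq_of_ne hx]; split_ifs <;> omega
      refine dvd_trans (pow_dvd_pow _ hle) ?_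
      rw [pow_one, dvd_iff_isRoot, IsRoot.def, eval_sub, eval_pow, eval_X, eval_one, zp_pow hζ, ZMod.natCast_self,
        zero_mul, zp_zero, sub_self]
    rw [show (X ^ r - 1 : L[X]) = (X ^ r - 1 : F[X]).map (algebraMap F L) by simp] at hdvd
    have hfull : (f₁ * f₂) * (X - 1) = X ^ r - 1 := by
      have h0 : (Pm ζ (i₁ + i₂ + Pi.single (0 : ZMod r) 1)).natDegree = r := by
        rw [Pm_natDegree]
        calc ∑ x, (i₁ + i₂ + Pi.single (0 : ZMod r) 1 : ZMod r → ℕ) x = ∑ _x : ZMod r, 1 := by
              refine Finset.sum_congr rfl fun x _ => ?_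
              simp only [Pi.add_apply, i₁, i₂]
              by_cases hx : x = 0
              · subst hx; simp
              · rw [Pi.single_eq_of_ne hx]
                have := hfne x hx
                split_ifs <;> omega
          _ = r := by simp [ZMod.card]
      have hm1 : (X - 1 : F[X]).Monic := by rw [← C_1]; exact monic_X_sub_C 1
      have hmr : (X ^ r - 1 : F[X]).Monic := by rw [← C_1]; exact monic_X_pow_sub_C 1 (Fact.out : r.Prime).ne_zero
      refine (eq_of_monic_of_dvd_of_natDegree_le ((hf₁m.mul hf₂m).mul hm1) hmr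
        ((Polynomial.map_dvd_map' (algebraMap F L)).mp hdvd) ?_).symm
      rw [← Polynomial.natDegree_map (algebraMap F L) (p := f₁ * f₂ * (X - 1)), Polynomial.map_mul, Polynomial.map_mul,
        hf₁, hf₂, Polynomial.map_sub, map_X, Polynomial.map_one, ← pow_one (X - 1 : L[X]), ← Pm_single (r := r) ζ 1,
        ← Pm_add, ← Pm_add, h0, ← C_1, natDegree_X_pow_sub_C]
    have h1 : aeval T ((X - 1 : F[X]) * (f₁ * f₂)) = 0 := by
      rw [mul_comm, hfull, map_sub, map_pow, aeval_X, hTr, map_one, sub_self]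
    rw [map_mul, map_sub, aeval_X, map_one] at h1
    refine LinearMap.ext fun v => hfix _ ?_
    have h2 := LinearMap.congr_fun h1 v
    rw [Module.End.mul_apply, LinearMap.sub_apply, Module.End.one_apply, LinearMap.zero_apply, sub_eq_zero, hTa] at h2
    exact h2
  -- coprimality and the totally singular kernels
  have hco : ∀ (i j : ZMod r → ℕ) (p q : F[X]), p.map (algebraMap F L) = Pm ζ i → q.map (algebraMap F L) = Pm ζ j →
      (∀ x, i x = 0 ∨ j x = 0) → IsCoprime p q := by
    intro i j p q hp hq hij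
    refine (Polynomial.isCoprime_map (algebraMap F L)).mp ?_
    rw [hp, hq, Pm, Pm]
    refine IsCoprime.prod_left fun x _ => IsCoprime.prod_right fun y _ => ?_
    by_cases hxy : x = y
    · subst hxy
      rcases hij x with h | h <;> rw [h, pow_zero]
      · exact isCoprime_one_left
      · exact isCoprime_one_right
    · exact IsCoprime.pow (isCoprime_X_sub_C_of_isUnit_sub (sub_ne_zero.mpr fun h => hxy (zp_inj hζ h)).isUnit)
  have h12 : IsCoprime f₁ f₂ := hco i₁ i₂ f₁ f₂ hf₁ hf₂ fun x => by
    simp only [i₁, i₂]; split_ifs <;> omega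
  have hker : ∀ (i j : ZMod r → ℕ) (p q : F[X]), p.map (algebraMap F L) = Pm ζ i → q.map (algebraMap F L) = Pm ζ j →
      (∀ x, i x = 0 ∨ j x = 0) → (∀ x, i x ≤ j (-x)) → (∀ x, i x ≤ 1) → i 0 = 0 →
      ∀ v, aeval T p v = 0 → Q v = 0 := by
    intro i j p q hp hq hij hneg hi1 hi0 v hv
    obtain ⟨a, b, hab⟩ := hco i j p q hp hq hij
    have hpc : p ∣ q.comp (X ^ (r - 1)) := by
      rw [← Polynomial.map_dvd_map' (algebraMap F L), hp, Pm]
      refine Finset.prod_dvd_of_coprime (fun a _ b _ hab => IsCoprime.pow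
        (isCoprime_X_sub_C_of_isUnit_sub (sub_ne_zero.mpr fun h => hab (zp_inj hζ h)).isUnit)) fun x _ => ?_
      rcases Nat.eq_zero_or_pos (i x) with h | h
      · rw [h, pow_zero]; exact one_dvd _
      · rw [show i x = 1 by have := hi1 x; omega, pow_one, dvd_iff_isRoot, IsRoot.def, Polynomial.map_comp, eval_comp,
          Polynomial.map_pow, map_X, eval_pow, eval_X, zp_pow hζ, Nat.cast_sub (Fact.out : r.Prime).one_le,
          ZMod.natCast_self, Nat.cast_one, zero_sub, neg_one_mul, hq, Pm, eval_prod]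
        refine Finset.prod_eq_zero (Finset.mem_univ (-x)) ?_
        have := hneg x
        rw [eval_pow, eval_sub, eval_X, eval_C, sub_self, zero_pow (by omega)]
    set T' : Module.End F (ι → F) := T ^ (r - 1) with hT'
    have hT'T : ∀ w, T (T' w) = w := fun w => by
      rw [hT', ← Module.End.mul_apply, ← pow_succ', Nat.sub_add_cancel (Fact.out : r.Prime).one_le, hTr,
        Module.End.one_apply]
    have hadj : ∀ (h : F[X]) (x y : ι → F), B x (aeval T h y) = B (aeval T' h x) y := by
      intro h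
      induction h using Polynomial.induction_on' with
      | add a b ha hb => intro x y; simp only [map_add, LinearMap.add_apply, ha, hb]
      | monomial k e =>
        intro x y
        rw [aeval_monomial, aeval_monomial, Module.End.mul_apply, Module.End.mul_apply, Module.algebraMap_end_apply,
          Module.algebraMap_end_apply, map_smul, map_smul, LinearMap.smul_apply]
        congr 1
        induction k generalizing x y with
        | zero => simp
        | succ k ih =>
          rw [pow_succ', Module.End.mul_apply]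
          calc B x (T ((T ^ k) y)) = B (T (T' x)) (T ((T ^ k) y)) := by rw [hT'T]
            _ = B (T' x) ((T ^ k) y) := by rw [hTa, hTa]; exact C.B_act g.2 _ _
            _ = B ((T' ^ k) (T' x)) y := ih _ _
            _ = B ((T' ^ (k + 1)) x) y := by rw [pow_succ, Module.End.mul_apply]
    have hperp : ∀ u w, aeval T p u = 0 → aeval T p w = 0 → B u w = 0 := by
      intro u w hu hw
      have h1 := LinearMap.congr_fun (congrArg (aeval T) hab) w
      rw [map_add, LinearMap.add_apply, map_mul, map_mul, Module.End.mul_apply, Module.End.mul_apply, hw, map_zero,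
        zero_add, map_one, Module.End.one_apply] at h1
      rw [← h1, ← Module.End.mul_apply, ← map_mul, mul_comm b q, map_mul, Module.End.mul_apply, hadj]
      have h2 : aeval T' q u = 0 := by
        obtain ⟨e, he⟩ := hpc
        have h3 : aeval T (q.comp (X ^ (r - 1))) = aeval T' q := by rw [aeval_comp, map_pow, aeval_X]
        rw [← h3, he, mul_comm, map_mul, Module.End.mul_apply, hu, map_zero]
      rw [h2, map_zero, LinearMap.zero_apply]
    -- write `v` as `T w - w` inside the kernel
    have hc1 : IsCoprime p (X - 1) := hco i (Pi.single (0 : ZMod r) 1) p (X - 1) hp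
      (by rw [Pm_single, pow_one, Polynomial.map_sub, map_X, Polynomial.map_one]) (fun x => by
        by_cases hx : x = 0
        · exact Or.inl (hx ▸ hi0)
        · exact Or.inr (Pi.single_eq_of_ne hx _))
    obtain ⟨a', b', hab'⟩ := hc1
    set w := aeval T b' v with hw
    have hwk : aeval T p w = 0 := by rw [hw, ← Module.End.mul_apply, ← map_mul, mul_comm, map_mul, Module.End.mul_apply, hv, map_zero]
    have hvw : v = T w - w := by
      have h1 := LinearMap.congr_fun (congrArg (aeval T) hab') v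
      rw [map_add, LinearMap.add_apply, map_mul, Module.End.mul_apply, hv, map_zero, zero_add, map_one,
        Module.End.one_apply, mul_comm, map_mul, Module.End.mul_apply, map_sub, aeval_X, map_one, LinearMap.sub_apply,
        Module.End.one_apply] at h1
      exact h1.symm
    have hTw : aeval T p (T w) = 0 := by
      calc aeval T p (T w) = aeval T (p * X) w := by rw [map_mul, Module.End.mul_apply, aeval_X]
        _ = aeval T X (aeval T p w) := by rw [mul_comm, map_mul, Module.End.mul_apply]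
        _ = 0 := by rw [hwk, map_zero]
    rw [hvw, sub_eq_add_neg, C.add, C.neg, map_neg, hperp _ _ hTw hwk, neg_zero, add_zero, hTa,
      mem_iso.mp g.2, ← two_mul, ← C.self, hperp _ _ hwk hwk]
  have hi₀ : i₁ 0 = 0 ∧ i₂ 0 = 0 := ⟨if_neg (by simp), if_neg (by simp)⟩
  have hdisj : ∀ x, i₁ x = 0 ∨ i₂ x = 0 := fun x => by simp only [i₁, i₂]; split_ifs <;> omega
  refine ⟨LinearMap.ker (aeval T f₁), LinearMap.ker (aeval T f₂), fun v hv => ?_, fun v hv => ?_, ?_⟩
  · exact hker i₁ i₂ f₁ f₂ hf₁ hf₂ hdisj (fun x => by simp only [i₁, i₂, neg_neg]; split_ifs <;> omega)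
      (fun x => by simp only [i₁]; split_ifs <;> omega) hi₀.1 v hv
  · exact hker i₂ i₁ f₂ f₁ hf₂ hf₁ (fun x => (hdisj x).symm) (fun x => by simp only [i₁, i₂, neg_neg]; split_ifs <;> omega)
      (fun x => by simp only [i₂]; split_ifs <;> omega) hi₀.2 v hv
  · have hsup := Polynomial.sup_ker_aeval_eq_ker_aeval_mul_of_coprime T h12
    rw [hann, LinearMap.ker_zero] at hsup
    have h := Submodule.finrank_add_le_finrank_add_finrank (LinearMap.ker (aeval T f₁)) (LinearMap.ker (aeval T f₂))
    rw [hsup, finrank_top, Module.finrank_fintype_fun_eq_card] at h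
    exact h

end Cfsg.Agent.Lib.Linear.PrimeClasses
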