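import Cfsg.Agent.Lib.Linear.PrimeClasses.FactorAway
import Cfsg.Agent.Lib.Linear.OrthBasic
import Cfsg.Agent.S0750

set_option linter.style.haveILetI false

/-!
# Semisimple conjugacy in orthogonal groups
-/

set_option autoImplicit false

namespace Cfsg.Agent.Lib.Linear.OrthConj

open scoped Matrix
open Cfsg.Lib.Linear.Orth

variable {ι : Type} [Fintype ι] [DecidableEq ι] {F : Type*} [Field F] [Fintype F]
  {Q : (ι → F) → F} {B : LinearMap.BilinForm F (ι → F)}

theorem isConj_isometry (C : Space Q B) (a b : ↥(Cfsg.isometryGroup F Q)) {N : ℕ} (hN : (N : F) ≠ 0)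
    (hodd : Odd N) (ha : a ^ N = 1)
    (h : IsConj ((a : GL ι F) : Matrix ι ι F) ((b : GL ι F) : Matrix ι ι F)) : IsConj a b := by
  classical
  set A : Matrix ι ι F := ((a : GL ι F) : Matrix ι ι F) with hAdef
  set A₂ : Matrix ι ι F := ((b : GL ι F) : Matrix ι ι F) with hA₂def
  set Ai : Matrix ι ι F := ((a⁻¹ : ↥(Cfsg.isometryGroup F Q)) : GL ι F).val with hAidef
  obtain ⟨c, hc⟩ := h
  set T : Matrix ι ι F := (c : Matrix ι ι F) with hTdef
  have hTA : T * A = A₂ * T := hc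
  have hT : IsUnit T := c.isUnit
  set J : Matrix ι ι F := LinearMap.BilinForm.toMatrix' B with hJdef
  have hJd : ∀ u v, u ⬝ᵥ (J *ᵥ v) = B u v := fun u v => by
    rw [← Matrix.toBilin'_apply', hJdef, Matrix.toBilin'_toMatrix']
  have hmv : ∀ (M : Matrix ι ι F) u v, u ⬝ᵥ ((Mᵀ * J * M) *ᵥ v) = B (M *ᵥ u) (M *ᵥ v) := fun M u v => by
    rw [← hJd, ← Matrix.mulVec_mulVec, ← Matrix.mulVec_mulVec, Matrix.dotProduct_mulVec, Matrix.vecMul_transpose]
  have hJu : IsUnit J := Matrix.mulVec_injective_iff_isUnit.mp fun v w hvw => sub_eq_zero.mp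
    (C.nondeg _ fun u => by rw [map_sub, ← hJd, ← hJd, hvw, sub_self])
  have hAJ : Aᵀ * J * A = J := Matrix.ext_iff_mulVec.mpr fun v => dotProduct_eq _ _ fun u => by
    rw [dotProduct_comm, dotProduct_comm _ u, hmv, hJd]
    exact C.B_act a.2 u v
  have hAi : A * Ai = 1 :=
    congrArg (fun x : ↥(Cfsg.isometryGroup F Q) => ((x : GL ι F) : Matrix ι ι F)) (mul_inv_cancel a)
  have hAi' : Ai * A = 1 := mul_eq_one_comm.mp hAi
  have hAN : A ^ N = 1 := by rw [hAdef, ← Units.val_pow_eq_pow_val, ← SubmonoidClass.coe_pow, ha]; rfl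
  obtain ⟨Ji, hJi⟩ := hJu.exists_left_inv
  have hJJ : J * Ji = 1 := mul_eq_one_comm.mp hJi
  set H : Matrix ι ι F := Ji * (Tᵀ * J * T) with hHdef
  have hJH : J * H = Tᵀ * J * T := by rw [hHdef, ← mul_assoc, hJJ, one_mul]
  have hHu : IsUnit H :=
    (IsUnit.of_mul_eq_one _ hJi).mul ((((Matrix.isUnit_transpose T).mpr hT).mul hJu).mul hT)
  have hJsym : Jᵀ = J := Matrix.ext fun i j => by
    show J j i = J i j
    rw [hJdef, LinearMap.BilinForm.toMatrix'_apply, LinearMap.BilinForm.toMatrix'_apply]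
    exact C.symm _ _
  have hHT : Hᵀ * J = J * H := by
    have h1 : (J * H)ᵀ = J * H := by
      rw [hJH, Matrix.transpose_mul, Matrix.transpose_mul, Matrix.transpose_transpose, hJsym, mul_assoc]
    rwa [Matrix.transpose_mul, hJsym] at h1
  have hA₂J : A₂ᵀ * J * A₂ = J := Matrix.ext_iff_mulVec.mpr fun v => dotProduct_eq _ _ fun u => by
    rw [dotProduct_comm, dotProduct_comm _ u, hmv, hJd]
    exact C.B_act b.2 u v
  have hkey : Aᵀ * (J * H) * A = J * H := by
    rw [hJH]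
    calc Aᵀ * (Tᵀ * J * T) * A = (T * A)ᵀ * J * (T * A) := by
          rw [Matrix.transpose_mul]; simp only [mul_assoc]
      _ = Tᵀ * (A₂ᵀ * J * A₂) * T := by rw [hTA, Matrix.transpose_mul]; simp only [mul_assoc]
      _ = Tᵀ * J * T := by rw [hA₂J]
  have hAT : Aᵀ * J = J * Ai := by
    calc Aᵀ * J = Aᵀ * J * (A * Ai) := by rw [hAi, mul_one]
      _ = J * Ai := by rw [← mul_assoc, hAJ]
  have hHA : Commute A H := by
    have h1 : J * (Ai * H * A) = J * H := by
      rw [← hkey]; simp only [← mul_assoc]; rw [hAT]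
    have h2 := hJu.mul_left_cancel h1
    show A * H = H * A
    calc A * H = A * (Ai * H * A) := by rw [h2]
      _ = H * A := by rw [← mul_assoc, ← mul_assoc, hAi, one_mul]
  obtain ⟨e, S, he2, -, heA, -, hinv, hSA, -, -, hS⟩ := exists_factor_away hN hAN hJu hAJ hAi hHu hHA hHT
  -- the projection away from the fixed points
  have hA1 : (A - 1) * (1 - e) = 0 := by
    have h1 : A * (1 - e) = Ai * (1 - e) := by rw [← sub_eq_zero, ← sub_mul]; exact hinv
    have hsq : A * A * (1 - e) = 1 - e := by rw [mul_assoc, h1, ← mul_assoc, hAi, one_mul]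
    have hev : ∀ k : ℕ, (A * A) ^ k * (1 - e) = 1 - e := fun k => by
      induction k with
      | zero => simp
      | succ k ih => rw [pow_succ, mul_assoc, hsq, ih]
    obtain ⟨k, hk⟩ := hodd
    have h2 := hev (k + 1)
    rw [← pow_two, ← pow_mul, show 2 * (k + 1) = N + 1 by omega, pow_succ, hAN, one_mul] at h2
    rw [sub_mul, h2, one_mul, sub_self]
  set e₁ : Matrix ι ι F := (N : F)⁻¹ • ∑ j ∈ Finset.range N, A ^ j with he₁
  set f : Matrix ι ι F := 1 - e₁ with hf
  have hAe₁ : A * e₁ = e₁ := by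
    rw [he₁, mul_smul_comm, Finset.mul_sum]
    congr 1
    have h1 := Finset.sum_range_succ' (fun j => A ^ j) N
    have h2 := Finset.sum_range_succ (fun j => A ^ j) N
    rw [h2, hAN, pow_zero] at h1
    rw [Finset.sum_congr rfl (fun j _ => (pow_succ' A j).symm)]
    exact (add_right_cancel h1).symm
  have hjfix : ∀ (X : Matrix ι ι F), A * X = X → ∀ j : ℕ, A ^ j * X = X := fun X hX j => by
    induction j with
    | zero => simp
    | succ j ih => rw [pow_succ, mul_assoc, hX, ih]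
  have hfix : ∀ (X : Matrix ι ι F), A * X = X → e₁ * X = X := fun X hX => by
    rw [he₁, smul_mul_assoc, Finset.sum_mul, Finset.sum_congr rfl (fun j _ => hjfix X hX j), Finset.sum_const,
      Finset.card_range, ← Nat.cast_smul_eq_nsmul F, smul_smul, inv_mul_cancel₀ hN, one_smul]
  have he₁e₁ : e₁ * e₁ = e₁ := hfix e₁ hAe₁
  have hff : f * f = f := by rw [hf, mul_sub, mul_one, sub_mul, one_mul, he₁e₁, sub_self, sub_zero]
  have hfH : f * H = H * f := by
    rw [hf, sub_mul, mul_sub, one_mul, mul_one, he₁, smul_mul_assoc, mul_smul_comm, Finset.sum_mul, Finset.mul_sum]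
    congr 2
    exact Finset.sum_congr rfl fun j _ => (hHA.pow_left j).eq
  have hfA : f * A = A * f := by
    rw [hf, sub_mul, mul_sub, one_mul, mul_one, he₁, smul_mul_assoc, mul_smul_comm, Finset.sum_mul, Finset.mul_sum]
    congr 2
    exact Finset.sum_congr rfl fun j _ => (Commute.pow_left (Commute.refl A) j).eq
  have hef : e * f = f := by
    have h1 : e₁ * (1 - e) = 1 - e := hfix _ (by rw [sub_mul, one_mul, sub_eq_zero] at hA1; exact hA1)
    have hcomm : e₁ * e = e * e₁ := by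
      have : e₁ * (1 - e) = (1 - e) * e₁ := by
        rw [he₁, smul_mul_assoc, mul_smul_comm, Finset.sum_mul, Finset.mul_sum]
        congr 1
        refine Finset.sum_congr rfl fun j _ => ?_
        rw [mul_sub, sub_mul, one_mul, mul_one]
        congr 1
        exact (Commute.pow_right heA j).eq.symm
      rw [mul_sub, sub_mul, mul_one, one_mul, sub_right_inj] at this
      exact this
    rw [mul_sub, mul_one] at h1
    have h2 : e₁ * e = e₁ - 1 + e := by rw [← sub_eq_zero] at h1 ⊢; linear_combination (norm := noncomm_ring) -(1 : ℤ) • h1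
    rw [hf, mul_sub, mul_one, ← hcomm, h2]; noncomm_ring
  have hfT : fᵀ * J = J * f := by
    have hpow : ∀ j : ℕ, (A ^ j)ᵀ * J = J * Ai ^ j := fun j => by
      induction j with
      | zero => simp
      | succ j ih => rw [pow_succ', Matrix.transpose_mul, mul_assoc, hAT, ← mul_assoc, ih, mul_assoc, ← pow_succ]
    rw [hf, Matrix.transpose_sub, Matrix.transpose_one, sub_mul, mul_sub, one_mul, mul_one, he₁, Matrix.transpose_smul,
      Matrix.transpose_sum, smul_mul_assoc, Finset.sum_mul, mul_smul_comm, Finset.mul_sum]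
    congr 2
    rw [Finset.sum_congr rfl (fun j _ => hpow j), ← Finset.mul_sum, ← Finset.mul_sum]
    congr 1
    refine Finset.sum_bij (fun j _ => (N - j) % N) (fun j hj => Finset.mem_range.mpr (Nat.mod_lt _ hodd.pos))
      (fun x hx y hy hxy => ?_) (fun y hy => ?_) (fun j hj => ?_)
    · rw [Finset.mem_range] at hx hy
      rcases Nat.eq_zero_or_pos x with rfl | hx0 <;> rcases Nat.eq_zero_or_pos y with rfl | hy0
      · rfl
      · rw [Nat.sub_zero, Nat.mod_self, Nat.mod_eq_of_lt (by omega)] at hxy; omega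
      · rw [Nat.sub_zero, Nat.mod_self, Nat.mod_eq_of_lt (by omega)] at hxy; omega
      · rw [Nat.mod_eq_of_lt (by omega), Nat.mod_eq_of_lt (by omega)] at hxy; omega
    · rw [Finset.mem_range] at hy
      refine ⟨(N - y) % N, Finset.mem_range.mpr (Nat.mod_lt _ hodd.pos), ?_⟩
      rcases Nat.eq_zero_or_pos y with rfl | hy0
      · simp
      · rw [Nat.mod_eq_of_lt (show N - y < N by omega), show N - (N - y) = y by omega, Nat.mod_eq_of_lt hy]
    · rw [Finset.mem_range] at hj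
      rw [← pow_eq_pow_mod _ hAN]
      calc Ai ^ j = Ai ^ j * A ^ (j + (N - j)) := by rw [Nat.add_sub_cancel' hj.le, hAN, mul_one]
        _ = (Ai * A) ^ j * A ^ (N - j) := by
          rw [pow_add, ← mul_assoc, (show Commute Ai A from hAi'.trans hAi.symm).mul_pow]
        _ = A ^ (N - j) := by rw [hAi', one_pow, one_mul]
  -- the isometry on the moved part
  let V' : Submodule F (ι → F) := LinearMap.range (Matrix.toLin' f)
  have hV : ∀ v, v ∈ V' → f *ᵥ v = v := by
    rintro _ ⟨y, rfl⟩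
    rw [Matrix.toLin'_apply, Matrix.mulVec_mulVec, hff]
  have hSf : S * f = f * S := by
    rw [hf, mul_sub, sub_mul, mul_one, one_mul, he₁, smul_mul_assoc, mul_smul_comm, Finset.sum_mul, Finset.mul_sum]
    congr 2
    exact Finset.sum_congr rfl fun j _ => (hSA.pow_right j).eq
  have hpolar : ∀ u ∈ V', ∀ v ∈ V', B (S *ᵥ u) (S *ᵥ v) = B (T *ᵥ u) (T *ᵥ v) := fun u _ v hv => by
    rw [← hmv, ← hmv, hS, ← hJH]
    conv_lhs => rw [← hV v hv, Matrix.mulVec_mulVec, mul_assoc, hef]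
    conv_rhs => rw [← hV v hv, Matrix.mulVec_mulVec]
  have hQ : ∀ v ∈ V', Q (T *ᵥ v) = Q (S *ᵥ v) := by
    let d : (ι → F) → F := fun v => Q (T *ᵥ v) - Q (S *ᵥ v)
    have hadd : ∀ u ∈ V', ∀ v ∈ V', d (u + v) = d u + d v := fun u hu v hv => by
      simp only [d, Matrix.mulVec_add, C.add, hpolar u hu v hv]
      ring
    have hsmul : ∀ (t : F) v, d (t • v) = t ^ 2 * d v := fun t v => by
      simp only [d, Matrix.mulVec_smul, C.smul]; ring
    have hdA : ∀ v, d (A *ᵥ v) = d v := fun v => by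
      simp only [d]
      rw [Matrix.mulVec_mulVec, Matrix.mulVec_mulVec, hTA, hSA.eq, ← Matrix.mulVec_mulVec, ← Matrix.mulVec_mulVec,
        mem_iso.mp b.2, mem_iso.mp a.2]
    have hmem : ∀ (j : ℕ) v, v ∈ V' → A ^ j *ᵥ v ∈ V' ∧ d (A ^ j *ᵥ v) = d v := fun j v hv => by
      induction j with
      | zero => rw [pow_zero, Matrix.one_mulVec]; exact ⟨hv, rfl⟩
      | succ j ih =>
        obtain ⟨⟨y, hy⟩, h2⟩ := ih
        rw [pow_succ', ← Matrix.mulVec_mulVec]
        refine ⟨⟨A *ᵥ y, ?_⟩, by rw [hdA, h2]⟩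
        rw [← hy, Matrix.toLin'_apply, Matrix.toLin'_apply, Matrix.mulVec_mulVec, Matrix.mulVec_mulVec, hfA]
    have hneg : ∀ u ∈ V', d (-u) = -d u := fun u hu => by
      have h1 := hadd u hu (-u) (V'.neg_mem hu)
      rw [add_neg_cancel] at h1
      have h0 : d 0 = 0 := by simpa using hsmul 0 0
      rw [h0] at h1
      linear_combination -h1
    intro v hv
    have hsum : ∀ (s : Finset ℕ), d (∑ j ∈ s, (v - A ^ j *ᵥ v)) = 0 ∧ (∑ j ∈ s, (v - A ^ j *ᵥ v)) ∈ V' := by
      intro s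
      induction s using Finset.induction_on with
      | empty => exact ⟨by simpa using hsmul 0 0, by simp⟩
      | insert j s hjs ih =>
        rw [Finset.sum_insert hjs]
        have hm := hmem j v hv
        refine ⟨?_, V'.add_mem (V'.sub_mem hv hm.1) ih.2⟩
        rw [hadd _ (V'.sub_mem hv hm.1) _ ih.2, ih.1, sub_eq_add_neg, hadd _ hv _ (V'.neg_mem hm.1), hneg _ hm.1,
          hm.2, add_neg_cancel, add_zero]
    have hrep : v = (N : F)⁻¹ • ∑ j ∈ Finset.range N, (v - A ^ j *ᵥ v) := by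
      conv_lhs => rw [← hV v hv]
      rw [hf, Matrix.sub_mulVec, Matrix.one_mulVec, he₁, Matrix.smul_mulVec, Matrix.sum_mulVec, Finset.sum_sub_distrib,
        Finset.sum_const, Finset.card_range, smul_sub, ← Nat.cast_smul_eq_nsmul F, smul_smul, inv_mul_cancel₀ hN,
        one_smul]
    have hd : d v = 0 := by rw [hrep, hsmul, (hsum _).1, mul_zero]
    exact sub_eq_zero.mp hd
  have hSV : ∀ v ∈ V', S *ᵥ v ∈ V' := fun v hv => ⟨S *ᵥ v, by
    rw [Matrix.toLin'_apply, Matrix.mulVec_mulVec, ← hSf, ← Matrix.mulVec_mulVec, hV v hv]⟩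
  let S' : V' →ₗ[F] V' := (Matrix.toLin' S).restrict hSV
  have hJHf : fᵀ * (J * H) = J * H * f := by rw [← mul_assoc, hfT, mul_assoc, hfH]; exact (mul_assoc J H f).symm
  have hzero : ∀ z, (∀ w ∈ V', B (T *ᵥ z) (T *ᵥ w) = 0) → f *ᵥ z = 0 := fun z hz => by
    have hJHu : IsUnit (J * H) := hJu.mul hHu
    refine (Matrix.mulVec_injective_iff_isUnit.mpr ((Matrix.isUnit_transpose _).mpr hJHu))
      ((?_ : _ = (0 : ι → F)).trans (Matrix.mulVec_zero _).symm)
    refine dotProduct_eq _ _ fun u => ?_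
    have h1 := hz (f *ᵥ u) ⟨u, Matrix.toLin'_apply _ _⟩
    rw [← hmv, ← hJH, Matrix.mulVec_mulVec, ← hJHf, ← Matrix.mulVec_mulVec, Matrix.dotProduct_mulVec,
      Matrix.vecMul_transpose, Matrix.dotProduct_mulVec, ← Matrix.mulVec_transpose] at h1
    rw [h1, zero_dotProduct]
  have hS'inj : Function.Injective S' := (injective_iff_map_eq_zero _).mpr fun v hv => Subtype.ext (by
    show (v : ι → F) = 0
    rw [← hV _ v.2]
    refine hzero _ fun w hw => ?_
    rw [← hpolar _ v.2 _ hw, show S *ᵥ (v : ι → F) = 0 from congrArg Subtype.val hv, map_zero, LinearMap.zero_apply])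
  let S'' : V' ≃ₗ[F] V' := LinearMap.linearEquivOfInjective S' hS'inj rfl
  let φ : V' →ₗ[F] (ι → F) := (Matrix.toLin' T).comp (V'.subtype.comp S''.symm.toLinearMap)
  have hφS : ∀ v : V', φ (S'' v) = T *ᵥ (v : ι → F) := fun v => by
    show Matrix.toLin' T ((S''.symm (S'' v) : V') : ι → F) = _
    rw [S''.symm_apply_apply, Matrix.toLin'_apply]
  let qf : QuadraticForm F (ι → F) := QuadraticMap.ofPolar Q
    (fun a x => by rw [C.smul, smul_eq_mul, sq])
    (fun x x' y => by simp only [C.polar, map_add, LinearMap.add_apply])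
    (fun a x y => by simp only [C.polar, map_smul, LinearMap.smul_apply])
  have hqn : (QuadraticMap.polarBilin qf).Nondegenerate := by
    constructor <;> intro x hx
    · exact C.nondeg' fun y => by rw [← C.polar]; exact hx y
    · exact C.nondeg _ fun y => by rw [← C.polar]; exact hx y
  obtain ⟨g, hgQ, hgφ⟩ := Cfsg.Agent.S0750.witt_quadratic qf hqn V' φ
    (fun x y hxy => by
      obtain ⟨x, rfl⟩ := S''.surjective x
      obtain ⟨y, rfl⟩ := S''.surjective y
      rw [hφS, hφS] at hxy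
      exact congrArg S'' (Subtype.ext (Matrix.mulVec_injective_iff_isUnit.mpr hT hxy)))
    (fun x => by
      obtain ⟨x, rfl⟩ := S''.surjective x
      rw [hφS]
      exact hQ _ x.2)
  have hgS : ∀ v ∈ V', g (S *ᵥ v) = T *ᵥ v := fun v hv => (hgφ (S'' ⟨v, hv⟩)).trans (hφS ⟨v, hv⟩)
  have hBg : ∀ x y, B (g x) (g y) = B x y := fun x y => by
    have h1 : ∀ z, Q (g z) = Q z := hgQ
    rw [← C.polar, ← C.polar, QuadraticMap.polar, QuadraticMap.polar, ← map_add, h1, h1, h1]
  have hcommV : ∀ v ∈ V', g (A *ᵥ v) = A₂ *ᵥ g v := fun v hv => by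
    obtain ⟨⟨x, hx⟩, hSx⟩ := S''.surjective ⟨v, hv⟩
    have hvx : v = S *ᵥ x := (congrArg Subtype.val hSx).symm
    have hAx : A *ᵥ x ∈ V' := ⟨A *ᵥ x, by rw [Matrix.toLin'_apply, Matrix.mulVec_mulVec, hfA, ← Matrix.mulVec_mulVec, hV x hx]⟩
    rw [hvx, Matrix.mulVec_mulVec, ← hSA.eq, ← Matrix.mulVec_mulVec, hgS _ hAx, hgS _ hx, Matrix.mulVec_mulVec, hTA,
      ← Matrix.mulVec_mulVec]
  have hfix₂ : ∀ v, g (e₁ *ᵥ v) = A₂ *ᵥ g (e₁ *ᵥ v) := fun v => by
    obtain ⟨z, hz⟩ : ∃ z, T *ᵥ z = g (e₁ *ᵥ v) := (Matrix.mulVec_surjective_iff_isUnit.mpr hT) _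
    have hfe : fᵀ * J * e₁ = 0 := by
      rw [hfT, mul_assoc, hf, sub_mul, one_mul, he₁e₁, sub_self, mul_zero]
    have hperp : ∀ w ∈ V', B w (e₁ *ᵥ v) = 0 := fun w hw => by
      rw [← hV w hw, ← hJd, Matrix.mulVec_mulVec, Matrix.dotProduct_mulVec, ← Matrix.vecMul_transpose,
        Matrix.vecMul_vecMul, ← Matrix.dotProduct_mulVec, ← mul_assoc, hfe, Matrix.zero_mulVec, dotProduct_zero]
    have hfz : f *ᵥ z = 0 := hzero z fun w hw => by
      rw [hz, ← hgS w hw, hBg, C.symm]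
      exact hperp _ (hSV w hw)
    have hAz : A *ᵥ z = z := by
      rw [hf, Matrix.sub_mulVec, Matrix.one_mulVec, sub_eq_zero] at hfz
      rw [hfz, Matrix.mulVec_mulVec, hAe₁]
    rw [← hz, Matrix.mulVec_mulVec, ← hTA, ← Matrix.mulVec_mulVec, hAz]
  have hall : ∀ v, g (A *ᵥ v) = A₂ *ᵥ g v := fun v => by
    have hsplit : v = f *ᵥ v + e₁ *ᵥ v := by rw [← Matrix.add_mulVec, hf, sub_add_cancel, Matrix.one_mulVec]
    rw [hsplit, Matrix.mulVec_add, map_add, map_add, Matrix.mulVec_add, hcommV _ ⟨v, Matrix.toLin'_apply _ _⟩,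
      Matrix.mulVec_mulVec v A e₁, hAe₁, ← hfix₂]
  have hG : LinearMap.toMatrix' g.toLinearMap * LinearMap.toMatrix' g.symm.toLinearMap = 1 := by
    rw [← LinearMap.toMatrix'_comp, LinearEquiv.comp_symm, LinearMap.toMatrix'_id]
  have hact : ∀ x, (toGL (LinearMap.toMatrix' g.toLinearMap)).val *ᵥ x = g x := fun x => by
    rw [toGL_val hG, LinearMap.toMatrix'_mulVec]; rfl
  have hmemg : toGL (LinearMap.toMatrix' g.toLinearMap) ∈ Cfsg.isometryGroup F Q :=
    mem_iso.2 fun x => by rw [hact]; exact hgQ x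
  refine isConj_iff.mpr ⟨⟨_, hmemg⟩, ?_⟩
  rw [mul_inv_eq_iff_eq_mul]
  refine Subtype.ext (gl_ext fun x => ?_)
  rw [Subgroup.coe_mul, Subgroup.coe_mul, mul_act, mul_act, hact, hact]
  exact hall x

end Cfsg.Agent.Lib.Linear.OrthConj
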