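import Cfsg.Agent.Lib.Linear.PrimeClasses.Compose
import Cfsg.Agent.Lib.Linear.PrimeClasses.Classes
import Cfsg.Agent.Lib.Linear.PrimeClasses.Embed
import Cfsg.Agent.Lib.Linear.PrimeClasses.OrthConj
import Cfsg.Agent.Lib.Linear.PrimeClasses.NoFixed

set_option linter.style.haveILetI false

/-!
# Classes of elements of prime order in orthogonal groups
-/

set_option autoImplicit false

universe u

namespace Cfsg.Agent.Lib.Linear.PrimeClasses

open Polynomial
open scoped Matrix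
open Cfsg.Lib.Linear.Orth

theorem even_sum_units {r : ℕ} [Fact r.Prime] (hr2 : r ≠ 2) {w : (ZMod r)ˣ}
    (hwn : ∃ k : ℕ, (-1 : (ZMod r)ˣ) = w ^ k) {n : ℕ} {m : ZMod r → ℕ} (hm : Inv w n m) :
    2 ∣ ∑ u : (ZMod r)ˣ, m u := by
  have hw2 : 2 ∣ orderOf w := by
    obtain ⟨k, hk⟩ := hwn
    have h2 : orderOf (-1 : (ZMod r)ˣ) = 2 := by
      rw [← orderOf_units, Units.val_neg, Units.val_one, orderOf_neg_one, ringChar.eq (ZMod r) r, if_neg hr2]
    rw [← h2, hk]
    exact orderOf_pow_dvd k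
  have h : ∑ u : (ZMod r)ˣ, m u = ∑ u : (ZMod r)ˣ, (cosetEquiv w n ⟨m, hm⟩).1 u :=
    Finset.sum_congr rfl fun u _ => rfl
  rw [h, sum_coset]
  exact dvd_mul_of_dvd_left hw2 _

variable {F : Type u} [Field F] [Fintype F] {L : Type u} [Field L] [Algebra F L] [IsAlgClosed L]
  {r : ℕ} [Fact r.Prime] {ζ : L}

theorem fixed_free {ι : Type} [Fintype ι] [DecidableEq ι] (hζ : IsPrimitiveRoot ζ r) (A : Matrix ι ι F)
    {f : ZMod r → ℕ} (hA : A.charpoly.map (algebraMap F L) = Pm ζ f) (hf0 : f 0 = 0) (v : ι → F)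
    (hv : A *ᵥ v = v) : v = 0 := by
  classical
  by_contra hne
  have hdet : (1 - A).det = 0 := by
    rw [← Matrix.exists_mulVec_eq_zero_iff]
    exact ⟨v, hne, by rw [Matrix.sub_mulVec, Matrix.one_mulVec, hv, sub_self]⟩
  have h1 : A.charpoly.eval 1 = 0 := by rw [Matrix.eval_charpoly, map_one, hdet]
  have h2 := congrArg (Polynomial.eval (zp ζ (0 : ZMod r))) hA
  rw [zp_zero, eval_map, eval₂_at_one, h1, map_zero, ← zp_zero (ζ := ζ) (r := r)] at h2
  have h3 : 0 < (Pm ζ f).rootMultiplicity (zp ζ (0 : ZMod r)) :=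
    (rootMultiplicity_pos (Pm_monic ζ f).ne_zero).mpr h2.symm
  rw [count_roots_Pm hζ, hf0] at h3
  exact lt_irrefl 0 h3

variable {ι : Type} [Fintype ι] [DecidableEq ι] {Q : (ι → F) → F} {B : LinearMap.BilinForm F (ι → F)}

/-- Realising a multiplicity function inside a given space. -/
theorem orth_real (C : Space Q B) (hζ : IsPrimitiveRoot ζ r) {uq : (ZMod r)ˣ}
    (huq : (uq : ZMod r) = (Fintype.card F : ZMod r)) (hr2 : r ≠ 2) (w : (ZMod r)ˣ)
    (hwq : ∃ k : ℕ, uq = w ^ k) (hwn : ∃ k : ℕ, (-1 : (ZMod r)ˣ) = w ^ k)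
    {f : ZMod r → ℕ} (hf : Inv w (Fintype.card ι) f)
    (hP : ∀ k, 1 ≤ k → 2 * k + f 0 = Fintype.card ι →
      (∃ g : ↥(Cfsg.isometryGroup F (Cfsg.quadFormPlus k F)), g ^ r = 1 ∧ ∀ v, (g : GL (Fin k ⊕ Fin k) F).val *ᵥ v = v → v = 0) →
      Embeds (Cfsg.quadFormPlus k F) Q)
    (hM : ∀ k, 1 ≤ k → 2 * k + f 0 = Fintype.card ι → ∀ z : F,
      (∀ z₁ z₂ : F, z₁ ^ 2 + 1 * z₁ * z₂ + z * z₂ ^ 2 = 0 → z₁ = 0 ∧ z₂ = 0) →
      (∃ g : ↥(Cfsg.isometryGroup F (Cfsg.quadFormMinus (k - 1) F 1 z)), g ^ r = 1 ∧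
        ∀ v, (g : GL ((Fin (k - 1) ⊕ Fin (k - 1)) ⊕ Fin 2) F).val *ᵥ v = v → v = 0) →
      Embeds (Cfsg.quadFormMinus (k - 1) F 1 z) Q) :
    ∃ g : ↥(Cfsg.isometryGroup F Q), g ^ r = 1 ∧
      ((g : GL ι F) : Matrix ι ι F).charpoly.map (algebraMap F L) = Pm ζ f := by
  classical
  let f' : ZMod r → ℕ := fun x => if x = 0 then 0 else f x
  have hf' : Inv w (∑ x, f' x) f' := ⟨rfl, fun x => by
    simp only [f', mul_eq_zero, Units.ne_zero, false_or]
    rw [hf.2]⟩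
  have hsum : f' + Pi.single (0 : ZMod r) (f 0) = f := by
    funext x
    by_cases hx : x = 0
    · subst hx; simp [f']
    · simp [f', hx]
  obtain ⟨P', -, hP'⟩ := exists_descent (F := F) hζ huq f' (fun x => by
    obtain ⟨k, hk⟩ := hwq
    rw [hk, Units.val_pow_eq_pow_val]
    exact inv_pow hf' k x)
  obtain ⟨k, hk⟩ : ∃ k, ∑ x, f' x = 2 * k := by
    rw [sum_eq, show f' 0 = 0 from if_pos rfl, zero_add]
    exact even_sum_units hr2 hwn hf'
  have hkf : 2 * k + f 0 = Fintype.card ι := by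
    rw [← hk, ← hf.1]
    conv_rhs => rw [← hsum]
    simp [Finset.sum_add_distrib]
  rcases Nat.eq_zero_or_pos k with rfl | hk1
  · refine ⟨1, one_pow r, ?_⟩
    rw [Subgroup.coe_one, Units.val_one, Matrix.charpoly_one, Polynomial.map_pow, Polynomial.map_sub, map_X,
      Polynomial.map_one, ← hkf, mul_zero, zero_add, ← Pm_single (r := r) ζ (f 0)]
    congr 1
    rw [← hsum]
    have hz : f' = 0 := funext fun x => by
      have h := Finset.single_le_sum (f := f') (fun i _ => Nat.zero_le _) (Finset.mem_univ x)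
      simp only [Pi.zero_apply]
      omega
    simp [hz]
  obtain ⟨κ, _, _, R, D, C', A, hA, hAr, hAp⟩ :=
    quadReal_of_inv hζ huq hr2 w hwq hwn hf' (if_pos rfl) P' hP'
  have hcard : Fintype.card κ = 2 * k := by
    rw [← Matrix.charpoly_natDegree_eq_dim A, hAp, ← Polynomial.natDegree_map (algebraMap F L), hP', Pm_natDegree, hk]
  have finish : Embeds R Q → ∃ g : ↥(Cfsg.isometryGroup F Q), g ^ r = 1 ∧
      ((g : GL ι F) : Matrix ι ι F).charpoly.map (algebraMap F L) = Pm ζ f := by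
    rintro ⟨E, hE⟩
    obtain ⟨g, hg, hgp⟩ := extend_isometry C C' (LinearMap.toMatrix' E)
      (fun v => by rw [LinearMap.toMatrix'_mulVec, hE]) A hA (Fact.out : r.Prime).one_le hAr
    refine ⟨g, hg, ?_⟩
    rw [hgp, hAp, Polynomial.map_mul, hP', Polynomial.map_pow, Polynomial.map_sub, map_X, Polynomial.map_one,
      hcard, show Fintype.card ι - 2 * k = f 0 by omega, ← Pm_single (r := r) ζ (f 0), ← Pm_add, hsum]
  have fpf : ∀ {μ : Type} [Fintype μ] [DecidableEq μ] {S : (μ → F) → F} {DS : LinearMap.BilinForm F (μ → F)},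
      Space S DS → Fintype.card μ = 2 * k → Embeds R S →
      ∃ g : ↥(Cfsg.isometryGroup F S), g ^ r = 1 ∧ ∀ v, (g : GL μ F).val *ᵥ v = v → v = 0 := by
    intro μ _ _ S DS CS hμ hRS
    obtain ⟨E, hE⟩ := hRS
    obtain ⟨g, hg, hgp⟩ := extend_isometry CS C' (LinearMap.toMatrix' E)
      (fun v => by rw [LinearMap.toMatrix'_mulVec, hE]) A hA (Fact.out : r.Prime).one_le hAr
    refine ⟨g, hg, fun v hv => fixed_free hζ _ (f := f') ?_ (if_pos rfl) v hv⟩
    rw [hgp, hAp, hμ, hcard, Nat.sub_self, pow_zero, mul_one, hP']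
  rcases classify C' hk1 hcard with ⟨hRS, hSR⟩ | ⟨z, hz, hRS, hSR⟩
  · obtain ⟨DS, CS⟩ := exists_space_plus (F := F) k
    exact finish (hRS.trans (hP k hk1 hkf (fpf CS (by simp; omega) hRS)))
  · obtain ⟨DS, CS⟩ := exists_space_minus (k - 1) 1 z hz
    exact finish (hRS.trans (hM k hk1 hkf z hz (fpf CS (by simp; omega) hRS)))

/-- Classes of elements of order `r` in an orthogonal group. -/
theorem card_orth (C : Space Q B) (hζ : IsPrimitiveRoot ζ r) (hrL : (r : L) ≠ 0) (hrF : (r : F) ≠ 0) {uq : (ZMod r)ˣ}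
    (huq : (uq : ZMod r) = (Fintype.card F : ZMod r)) (hr2 : r ≠ 2) (w : (ZMod r)ˣ)
    (hw : (w : ZMod r) = (uq : ZMod r) ∨ (w : ZMod r) = -(uq : ZMod r)) (Ok : (ZMod r → ℕ) → Prop)
    (hnec : ∀ g : ↥(Cfsg.isometryGroup F Q), g ^ r = 1 → ∀ f : ZMod r → ℕ, Inv w (Fintype.card ι) f →
      ((g : GL ι F) : Matrix ι ι F).charpoly.map (algebraMap F L) = Pm ζ f → Ok f)
    (hreal : ∀ f : ZMod r → ℕ, Inv w (Fintype.card ι) f → Ok f → ∃ g : ↥(Cfsg.isometryGroup F Q), g ^ r = 1 ∧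
      ((g : GL ι F) : Matrix ι ι F).charpoly.map (algebraMap F L) = Pm ζ f) :
    Nat.card {K : ConjClasses ↥(Cfsg.isometryGroup F Q) //
        ∃ g : ↥(Cfsg.isometryGroup F Q), ConjClasses.mk g = K ∧ orderOf g = r} =
      Nat.card {f : ZMod r → ℕ // Inv w (Fintype.card ι) f ∧ Ok f} - 1 := by
  classical
  let e : ι ≃ Fin (Fintype.card ι) := Fintype.equivFin ι
  let R := Matrix.reindexAlgEquiv F F e
  let ρ : ↥(Cfsg.isometryGroup F Q) →* Matrix (Fin (Fintype.card ι)) (Fin (Fintype.card ι)) F :=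
    R.toAlgHom.toRingHom.toMonoidHom.comp ((Units.coeHom _).comp (Cfsg.isometryGroup F Q).subtype)
  have hρc : ∀ a, (ρ a).charpoly = ((a : GL ι F) : Matrix ι ι F).charpoly := fun a => Matrix.charpoly_reindex e _
  refine card_classes (F := F) (L := L) hζ ρ w Ok (fun a b ha hb hab => ?_) (fun a ha f hf hs => ?_)
    (fun f hf hok => ?_)
  · have hodd : Odd r := (Fact.out : r.Prime).odd_of_ne_two hr2
    refine Cfsg.Agent.Lib.Linear.OrthConj.isConj_isometry C a b hrF hodd ha ?_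
    have h := Cfsg.Lib.CanonicalForm.isConj_of_charpoly_eq (A := ρ a) (B := ρ b) r r hrF hrF
      (by rw [← map_pow, ha, map_one]) (by rw [← map_pow, hb, map_one]) hab
    simpa [ρ, R] using MonoidHom.map_isConj R.symm.toAlgHom.toRingHom.toMonoidHom h
  · have hinv : Inv w (Fintype.card ι) f := by
      refine inv_of_charpoly hζ hrL huq w hw (ρ a) (ρ a⁻¹) (by rw [← map_pow, ha, map_one])
        (by rw [← map_mul, mul_inv_cancel, map_one]) ?_ hf hs
      rw [hρc, hρc]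
      refine charpoly_inv_of_form (LinearMap.BilinForm.toMatrix' B) _ _ ?_ ?_
        (congrArg (fun x : ↥(Cfsg.isometryGroup F Q) => ((x : GL ι F) : Matrix ι ι F)) (mul_inv_cancel a))
      · refine Matrix.mulVec_injective_iff_isUnit.mp fun v v' hvv => sub_eq_zero.mp (C.nondeg _ fun u => ?_)
        rw [map_sub]
        have hd : ∀ u v, u ⬝ᵥ (LinearMap.BilinForm.toMatrix' B *ᵥ v) = B u v := fun u v => by
          rw [← Matrix.toBilin'_apply', Matrix.toBilin'_toMatrix']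
        rw [← hd, ← hd, hvv, sub_self]
      · refine Matrix.ext_iff_mulVec.mpr fun v => dotProduct_eq _ _ fun u => ?_
        have hd : ∀ u v, u ⬝ᵥ (LinearMap.BilinForm.toMatrix' B *ᵥ v) = B u v := fun u v => by
          rw [← Matrix.toBilin'_apply', Matrix.toBilin'_toMatrix']
        rw [dotProduct_comm, dotProduct_comm _ u, hd, ← Matrix.mulVec_mulVec, ← Matrix.mulVec_mulVec,
          Matrix.dotProduct_mulVec, Matrix.vecMul_transpose, hd]
        exact C.B_act a.2 u v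
    exact ⟨hinv, hnec a ha f hinv (by rw [← hρc, hf])⟩
  · obtain ⟨g, hg, hgp⟩ := hreal f hf hok
    exact ⟨g, hg, by rw [hρc, hgp]⟩

theorem pow_half {uq : (ZMod r)ˣ} {i k m : ℕ} (hi : orderOf uq = i) (he : Even i) (hm : 2 * m = i * k) :
    (uq : ZMod r) ^ m = (-1) ^ k := by
  obtain ⟨j, hj⟩ := he
  have h2 : i / 2 = j := by omega
  have hmj : m = j * k := by
    have : 2 * m = 2 * (j * k) := by rw [hm, hj]; ring
    omega
  have h1 := neg_one_mem_of_even (u := uq) (by rw [hi]; exact ⟨j, hj⟩)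
  rw [hi, h2] at h1
  rw [hmj, pow_mul, ← Units.val_pow_eq_pow_val, ← h1, Units.val_neg, Units.val_one]

theorem dvd_of_full {w : (ZMod r)ˣ} {n : ℕ} {f : ZMod r → ℕ} (hf : Inv w n f) (h0 : f 0 = 0) :
    orderOf w ∣ n := by
  have h := hf.1
  rw [sum_eq, h0, zero_add] at h
  rw [← h, show ∑ u : (ZMod r)ˣ, f u = ∑ u : (ZMod r)ˣ, (cosetEquiv w n ⟨f, hf⟩).1 u from Finset.sum_congr rfl fun u _ => rfl, sum_coset]
  exact dvd_mul_right _ _

theorem card_inv_compl (w : (ZMod r)ˣ) (n : ℕ) :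
    Nat.card {f : ZMod r → ℕ // Inv w n f ∧ f 0 ≠ 0} =
      Nat.card {f : ZMod r → ℕ // Inv w n f} - Nat.card {f : ZMod r → ℕ // Inv w n f ∧ f 0 = 0} := by
  classical
  haveI : Fintype {f : ZMod r → ℕ // Inv w n f} := Fintype.ofFinite _
  rw [← Nat.card_congr (Equiv.subtypeSubtypeEquivSubtypeInter (Inv w n) (fun f => f 0 ≠ 0)),
    ← Nat.card_congr (Equiv.subtypeSubtypeEquivSubtypeInter (Inv w n) (fun f => f 0 = 0)),
    Nat.card_eq_fintype_card, Nat.card_eq_fintype_card, Nat.card_eq_fintype_card, Fintype.card_subtype_compl]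

end Cfsg.Agent.Lib.Linear.PrimeClasses
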