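import Cfsg.Agent.Lib.Linear.PrimeClasses.Count
import Cfsg.Agent.Lib.Linear.CanonicalForm

/-!
# Characteristic polynomials of matrices of prime order, by multiplicities of roots
-/

set_option autoImplicit false

universe u

namespace Cfsg.Agent.Lib.Linear.PrimeClasses

open Polynomial

variable {L : Type u} [Field L] {r : ℕ} [Fact r.Prime]

/-- The power `ζ^x` for a residue `x`. -/
def zp (ζ : L) (x : ZMod r) : L := ζ ^ x.val

variable {ζ : L}

theorem zp_zero : zp ζ (0 : ZMod r) = 1 := by simp [zp]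

theorem zp_natCast (hζ : IsPrimitiveRoot ζ r) (k : ℕ) : zp ζ (k : ZMod r) = ζ ^ k := by
  rw [zp, ZMod.val_natCast]
  conv_rhs => rw [← pow_mod_orderOf, ← hζ.eq_orderOf]

theorem zp_pow (hζ : IsPrimitiveRoot ζ r) (x : ZMod r) (k : ℕ) : zp ζ x ^ k = zp ζ ((k : ZMod r) * x) := by
  conv_rhs => rw [← ZMod.natCast_zmod_val x, ← Nat.cast_mul, zp_natCast hζ]
  rw [zp, ← pow_mul, mul_comm]

theorem zp_add (hζ : IsPrimitiveRoot ζ r) (x y : ZMod r) : zp ζ (x + y) = zp ζ x * zp ζ y := by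
  conv_lhs => rw [← ZMod.natCast_zmod_val x, ← ZMod.natCast_zmod_val y, ← Nat.cast_add, zp_natCast hζ]
  rw [pow_add]; rfl

theorem zp_neg (hζ : IsPrimitiveRoot ζ r) (x : ZMod r) : zp ζ (-x) = (zp ζ x)⁻¹ := by
  refine eq_inv_of_mul_eq_one_left ?_
  rw [← zp_add hζ, neg_add_cancel, zp_zero]

theorem zp_inj (hζ : IsPrimitiveRoot ζ r) : Function.Injective (zp ζ : ZMod r → L) := fun x y h =>
  ZMod.val_injective r (hζ.pow_inj (ZMod.val_lt x) (ZMod.val_lt y) h)

theorem zp_ne_zero (hζ : IsPrimitiveRoot ζ r) (x : ZMod r) : zp ζ x ≠ 0 :=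
  pow_ne_zero _ (hζ.ne_zero (Fact.out : r.Prime).ne_zero)

theorem exists_zp (hζ : IsPrimitiveRoot ζ r) {μ : L} (hμ : μ ^ r = 1) : ∃ x : ZMod r, zp ζ x = μ := by
  obtain ⟨i, hi, rfl⟩ := hζ.eq_pow_of_pow_eq_one hμ
  exact ⟨(i : ZMod r), zp_natCast hζ i⟩

/-- The monic polynomial with root multiplicities `m`. -/
noncomputable def Pm (ζ : L) (m : ZMod r → ℕ) : L[X] := ∏ x, (X - C (zp ζ x)) ^ m x

theorem Pm_monic (ζ : L) (m : ZMod r → ℕ) : (Pm ζ m).Monic :=
  monic_prod_of_monic _ _ fun x _ => (monic_X_sub_C _).pow _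

theorem Pm_natDegree (ζ : L) (m : ZMod r → ℕ) : (Pm ζ m).natDegree = ∑ x, m x := by
  rw [Pm, natDegree_prod_of_monic _ _ (fun x _ => (monic_X_sub_C _).pow _)]
  exact Finset.sum_congr rfl fun x _ => by rw [natDegree_pow, natDegree_X_sub_C, mul_one]

theorem count_roots_Pm (hζ : IsPrimitiveRoot ζ r) (m : ZMod r → ℕ) (x : ZMod r) :
    (Pm ζ m).rootMultiplicity (zp ζ x) = m x := by
  classical
  rw [← count_roots]
  unfold Pm
  rw [roots_prod _ _ (Finset.prod_ne_zero_iff.mpr fun j _ => pow_ne_zero _ (X_sub_C_ne_zero _)),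
    Multiset.count_bind]
  show (∑ j, ((X - C (zp ζ j)) ^ m j).roots.count (zp ζ x)) = m x
  rw [Finset.sum_eq_single x]
  · rw [roots_pow, roots_X_sub_C, Multiset.count_nsmul, Multiset.count_singleton_self, mul_one]
  · intro j _ hj
    rw [roots_pow, roots_X_sub_C, Multiset.count_nsmul, Multiset.count_singleton,
      if_neg fun h => hj (zp_inj hζ h.symm), mul_zero]
  · simp

theorem Pm_inj (hζ : IsPrimitiveRoot ζ r) {m m' : ZMod r → ℕ} (h : Pm ζ m = Pm ζ m') : m = m' :=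
  funext fun x => by rw [← count_roots_Pm hζ m x, h, count_roots_Pm hζ]

theorem Pm_add (ζ : L) (m m' : ZMod r → ℕ) : Pm ζ (m + m') = Pm ζ m * Pm ζ m' := by
  rw [Pm, Pm, Pm, ← Finset.prod_mul_distrib]
  exact Finset.prod_congr rfl fun x _ => by rw [Pi.add_apply, pow_add]

theorem Pm_zero (ζ : L) : Pm ζ (0 : ZMod r → ℕ) = 1 := by simp [Pm]

theorem Pm_single (ζ : L) (a : ℕ) : Pm ζ (Pi.single (0 : ZMod r) a) = (X - 1) ^ a := by
  classical
  rw [Pm, Finset.prod_eq_single (0 : ZMod r)]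
  · rw [Pi.single_eq_same, zp_zero, C_1]
  · intro x _ hx
    rw [Pi.single_eq_of_ne hx, pow_zero]
  · simp

/-- Images under ring homomorphisms acting on `ζ` as a power. -/
theorem Pm_map {L' : Type*} [Field L'] (φ : L →+* L') {ζ' : L'} (hζ' : IsPrimitiveRoot ζ' r) (k : (ZMod r)ˣ)
    (hφ : φ ζ = zp ζ' (k : ZMod r)) (m : ZMod r → ℕ) :
    (Pm ζ m).map φ = Pm ζ' fun x => m (((k⁻¹ : (ZMod r)ˣ) : ZMod r) * x) := by
  rw [Pm, Pm, Polynomial.map_prod]
  refine Fintype.prod_equiv k.mulLeft _ _ fun x => ?_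
  rw [Polynomial.map_pow, Polynomial.map_sub, map_X, map_C]
  have h1 : φ (zp ζ x) = zp ζ' ((k : ZMod r) * x) := by
    rw [zp, map_pow, hφ, zp_pow hζ', ZMod.natCast_zmod_val, mul_comm]
  rw [h1]
  show _ = (X - C (zp ζ' ((k : ZMod r) * x))) ^ m (((k⁻¹ : (ZMod r)ˣ) : ZMod r) * ((k : ZMod r) * x))
  rw [Units.inv_mul_cancel_left]

theorem exists_Pm (hζ : IsPrimitiveRoot ζ r) [IsAlgClosed L] {n : ℕ} (A : Matrix (Fin n) (Fin n) L)
    (hA : A ^ r = 1) : ∃ m : ZMod r → ℕ, A.charpoly = Pm ζ m ∧ ∑ x, m x = n := by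
  classical
  have hroot : ∀ μ ∈ A.charpoly.roots, ∃ x : ZMod r, zp ζ x = μ := by
    intro μ hμ
    refine exists_zp hζ ?_
    rcases Nat.eq_zero_or_pos n with rfl | hn
    · have h0 : A.charpoly = 1 := (Matrix.charpoly_monic A).natDegree_eq_zero.mp
        (by rw [Matrix.charpoly_natDegree_eq_dim, Fintype.card_fin])
      rw [h0, roots_one] at hμ; simp at hμ
    haveI : Nonempty (Fin n) := ⟨⟨0, hn⟩⟩
    have h1 := spectrum.pow_mem_pow A r (Matrix.mem_spectrum_iff_isRoot_charpoly.mpr (isRoot_of_mem_roots hμ))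
    rw [hA, spectrum.one_eq, Set.mem_singleton_iff] at h1
    exact h1
  have hs : A.charpoly.Splits := IsAlgClosed.splits _
  let m : ZMod r → ℕ := fun x => A.charpoly.roots.count (zp ζ x)
  have hP : A.charpoly = Pm ζ m := by
    refine (hs.eq_prod_roots_of_monic (Matrix.charpoly_monic A)).trans ?_
    rw [Finset.prod_multiset_map_count, Pm]
    rw [← Finset.prod_subset (Finset.subset_univ
      (Finset.univ.filter fun x : ZMod r => zp ζ x ∈ A.charpoly.roots.toFinset))]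
    · refine (Finset.prod_bij (fun x _ => zp ζ x) (fun x hx => (Finset.mem_filter.mp hx).2)
        (fun a _ b _ h => zp_inj hζ h) (fun μ hμ => ?_) (fun _ _ => rfl)).symm
      obtain ⟨x, hx⟩ := hroot μ (Multiset.mem_toFinset.mp hμ)
      exact ⟨x, Finset.mem_filter.mpr ⟨Finset.mem_univ _, hx ▸ hμ⟩, hx⟩
    · intro x _ hx
      have : A.charpoly.roots.count (zp ζ x) = 0 :=
        Multiset.count_eq_zero.mpr fun h => hx (Finset.mem_filter.mpr ⟨Finset.mem_univ _, Multiset.mem_toFinset.mpr h⟩)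
      show (X - C (zp ζ x)) ^ m x = 1
      rw [show m x = 0 from this, pow_zero]
  refine ⟨m, hP, ?_⟩
  rw [← Pm_natDegree ζ, ← hP, Matrix.charpoly_natDegree_eq_dim, Fintype.card_fin]

theorem charpoly_inv (hζ : IsPrimitiveRoot ζ r) {n : ℕ} (hr : (r : L) ≠ 0)
    (A B : Matrix (Fin n) (Fin n) L) (hA : A ^ r = 1) (hAB : A * B = 1) (m : ZMod r → ℕ) (hm : A.charpoly = Pm ζ m) :
    B.charpoly = Pm ζ fun x => m (-x) := by
  classical
  have hsum : ∑ x, m x = n := by rw [← Pm_natDegree ζ, ← hm, Matrix.charpoly_natDegree_eq_dim, Fintype.card_fin]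
  let e : Fin n ≃ (x : ZMod r) × Fin (m x) := (Fintype.equivFinOfCardEq (by simp [hsum])).symm
  let D : Matrix (Fin n) (Fin n) L := Matrix.diagonal fun i => zp ζ (e i).1
  let D' : Matrix (Fin n) (Fin n) L := Matrix.diagonal fun i => zp ζ (-(e i).1)
  have hdia : ∀ g : ZMod r → ZMod r,
      (Matrix.diagonal fun i => zp ζ (g (e i).1) : Matrix (Fin n) (Fin n) L).charpoly =
        ∏ x, (X - C (zp ζ (g x))) ^ m x := fun g => by
    rw [Matrix.charpoly_diagonal, Fintype.prod_equiv e (fun i => X - C (zp ζ (g (e i).1)))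
      (fun p => X - C (zp ζ (g p.1))) (fun i => rfl), Fintype.prod_sigma]
    simp
  have hD : D ^ r = 1 := by
    rw [Matrix.diagonal_pow, ← Matrix.diagonal_one]
    congr 1
    funext i
    rw [Pi.pow_apply, zp_pow hζ, ZMod.natCast_self, zero_mul, zp_zero]
  obtain ⟨c, hc⟩ := Cfsg.Lib.CanonicalForm.isConj_of_charpoly_eq r r hr hr hA hD (hm.trans (hdia id).symm)
  have hc' : (c : Matrix (Fin n) (Fin n) L) * A = D * c := hc
  have hDD : D' * D = 1 := by
    rw [Matrix.diagonal_mul_diagonal, ← Matrix.diagonal_one]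
    congr 1
    funext i
    rw [← zp_add hζ, neg_add_cancel, zp_zero]
  have h2 : (c : Matrix (Fin n) (Fin n) L) * B = D' * c := by
    calc (c : Matrix (Fin n) (Fin n) L) * B = D' * D * c * B := by rw [hDD, one_mul]
      _ = D' * (c * A) * B := by rw [hc', ← mul_assoc]
      _ = D' * c := by rw [mul_assoc D', mul_assoc (c : Matrix (Fin n) (Fin n) L), hAB, mul_one]
  have h3 : D' = (c : Matrix (Fin n) (Fin n) L) * B * (↑c⁻¹ : Matrix (Fin n) (Fin n) L) := by
    rw [h2, mul_assoc, Units.mul_inv, mul_one]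
  calc B.charpoly = D'.charpoly := by rw [h3, Matrix.coe_units_inv]; exact (Matrix.charpoly_units_conj c B).symm
    _ = ∏ x, (X - C (zp ζ (-x))) ^ m x := hdia fun x => -x
    _ = Pm ζ fun x => m (-x) := Fintype.prod_equiv (Equiv.neg _) _ _ fun x => by simp

section descent

variable {F : Type*} [Field F] [Fintype F] [Algebra F L] [IsAlgClosed L] {p k : ℕ} [Fact p.Prime] [CharP F p]

theorem mem_range_of_pow_card {c : L} (hc : c ^ Fintype.card F = c) : ∃ a : F, algebraMap F L a = c := by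
  classical
  have hq : 1 < Fintype.card F := Fintype.one_lt_card
  have hne : (X ^ Fintype.card F - X : L[X]) ≠ 0 := FiniteField.X_pow_card_sub_X_ne_zero L hq
  by_contra hno
  let S : Finset L := insert c (Finset.univ.image (algebraMap F L))
  have hS : S ⊆ (X ^ Fintype.card F - X : L[X]).roots.toFinset := by
    intro x hx
    rw [Multiset.mem_toFinset, mem_roots hne, IsRoot.def, eval_sub, eval_pow, eval_X, sub_eq_zero]
    rcases Finset.mem_insert.mp hx with rfl | hx
    · exact hc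
    · obtain ⟨a, -, rfl⟩ := Finset.mem_image.mp hx
      rw [← map_pow, FiniteField.pow_card]
  have h1 := Finset.card_le_card hS
  rw [Finset.card_insert_of_notMem (fun h => by
      obtain ⟨a, -, ha⟩ := Finset.mem_image.mp h; exact hno ⟨a, ha⟩),
    Finset.card_image_of_injective _ (algebraMap F L).injective, Finset.card_univ] at h1
  have h2 := (Multiset.toFinset_card_le (X ^ Fintype.card F - X : L[X]).roots).trans (card_roots' _)
  rw [FiniteField.X_pow_card_sub_X_natDegree_eq L hq] at h2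
  omega

/-- The Frobenius of `F` on `L`. -/
theorem exists_frob (F : Type*) [Field F] [Fintype F] [Algebra F L] :
    ∃ φ : L →+* L, (∀ x, φ x = x ^ Fintype.card F) ∧ φ.comp (algebraMap F L) = algebraMap F L := by
  obtain ⟨p, hp⟩ := CharP.exists F
  haveI : Fact p.Prime := ⟨CharP.char_is_prime F p⟩
  haveI : CharP L p := charP_of_injective_algebraMap (algebraMap F L).injective p
  obtain ⟨k, -, hk⟩ := FiniteField.card F p
  refine ⟨iterateFrobenius L p k, fun x => by rw [iterateFrobenius_def, hk], RingHom.ext fun a => ?_⟩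
  rw [RingHom.comp_apply, iterateFrobenius_def, ← hk, ← map_pow, FiniteField.pow_card]

theorem Pm_frob_invariant (hζ : IsPrimitiveRoot ζ r) {u : (ZMod r)ˣ} (hu : (u : ZMod r) = (Fintype.card F : ZMod r))
    (m : ZMod r → ℕ) (P : F[X]) (hP : P.map (algebraMap F L) = Pm ζ m) (x : ZMod r) :
    m ((u : ZMod r) * x) = m x := by
  obtain ⟨φ, hφ, hφa⟩ := exists_frob (L := L) F
  have h := Pm_map φ hζ u (by rw [hφ, hu, zp_natCast hζ]) m
  rw [← hP, Polynomial.map_map, hφa, hP] at h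
  have := congrFun (Pm_inj hζ h) ((u : ZMod r) * x)
  rwa [Units.inv_mul_cancel_left] at this

theorem exists_descent (hζ : IsPrimitiveRoot ζ r) {u : (ZMod r)ˣ} (hu : (u : ZMod r) = (Fintype.card F : ZMod r))
    (m : ZMod r → ℕ) (hm : ∀ x, m ((u : ZMod r) * x) = m x) :
    ∃ P : F[X], P.Monic ∧ P.map (algebraMap F L) = Pm ζ m := by
  obtain ⟨φ, hφ, -⟩ := exists_frob (L := L) F
  have h := Pm_map φ hζ u (by rw [hφ, hu, zp_natCast hζ]) m
  have hm' : (fun x => m (((u⁻¹ : (ZMod r)ˣ) : ZMod r) * x)) = m := funext fun x => by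
    rw [← hm (((u⁻¹ : (ZMod r)ˣ) : ZMod r) * x), Units.mul_inv_cancel_left]
  rw [hm'] at h
  have hl : Pm ζ m ∈ lifts (algebraMap F L) := by
    rw [lifts_iff_coeff_lifts]
    intro i
    obtain ⟨a, ha⟩ := mem_range_of_pow_card (F := F) (c := (Pm ζ m).coeff i)
      (by rw [← hφ, ← coeff_map, h])
    exact ⟨a, ha⟩
  obtain ⟨P, hP, hdeg, hmon⟩ := lifts_and_degree_eq_and_monic hl (Pm_monic ζ m)
  exact ⟨P, hmon, hP⟩

end descent

end Cfsg.Agent.Lib.Linear.PrimeClasses
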