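import Cfsg.Agent.Lib.Linear.PrimeClasses.Roots
import Cfsg.Agent.Lib.Linear.OrthBasic

set_option linter.style.haveILetI false

/-!
# Invariant alternating and quadratic forms of semisimple blocks

A set `c` of non-zero residues stable under the field size and under negation gives an algebra
`F[X]/(g)`; multiplication by the root preserves explicit alternating and quadratic forms on it.
-/

set_option autoImplicit false

universe u

namespace Cfsg.Agent.Lib.Linear.PrimeClasses

open Polynomial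
open scoped Matrix

/-- An alternating space of dimension `#ι` has an isometry of order dividing `r` with characteristic polynomial `P`. -/
def AltReal {F : Type u} [Field F] (r : ℕ) (P : F[X]) : Prop :=
  ∃ (ι : Type) (_ : Fintype ι) (_ : DecidableEq ι) (J : Matrix ι ι F) (A : Matrix ι ι F),
    (∀ v, v ⬝ᵥ (J *ᵥ v) = 0) ∧ IsUnit J ∧ Aᵀ * J * A = J ∧ A ^ r = 1 ∧ A.charpoly = P

/-- A quadratic space has an isometry of order dividing `r` with characteristic polynomial `P`. -/
def QuadReal {F : Type u} [Field F] (r : ℕ) (P : F[X]) : Prop :=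
  ∃ (ι : Type) (_ : Fintype ι) (_ : DecidableEq ι) (Q : (ι → F) → F) (B : LinearMap.BilinForm F (ι → F)),
    Cfsg.Lib.Linear.Orth.Space Q B ∧
    ∃ A : Matrix ι ι F, (∀ v, Q (A *ᵥ v) = Q v) ∧ A ^ r = 1 ∧ A.charpoly = P

variable {F : Type u} [Field F] [Fintype F] {L : Type u} [Field L] [Algebra F L] [IsAlgClosed L]
  {r : ℕ} [Fact r.Prime] {ζ : L}

section block

variable (g : F[X]) (c : Finset (ZMod r))

/-- Evaluation of `F[X]/(g)` at a root. -/
noncomputable def ev (hg : g.map (algebraMap F L) = Pm ζ (fun x => if x ∈ c then 1 else 0))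
    (x : ZMod r) (hx : x ∈ c) : AdjoinRoot g →ₐ[F] L :=
  AdjoinRoot.liftAlgHom g (Algebra.ofId F L) (zp ζ x) (by
    show g.eval₂ (algebraMap F L) (zp ζ x) = 0
    rw [← eval_map, hg, Pm, eval_prod]
    exact Finset.prod_eq_zero (Finset.mem_univ x) (by simp [hx]))

variable {g c} (hg : g.map (algebraMap F L) = Pm ζ (fun x => if x ∈ c then 1 else 0))

theorem ev_mk (x : ZMod r) (hx : x ∈ c) (f : F[X]) :
    ev g c hg x hx (AdjoinRoot.mk g f) = (f.map (algebraMap F L)).eval (zp ζ x) := by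
  rw [eval_map]
  exact AdjoinRoot.liftAlgHom_mk _ _ _ _ _

theorem ev_root (x : ZMod r) (hx : x ∈ c) : ev g c hg x hx (AdjoinRoot.root g) = zp ζ x :=
  AdjoinRoot.liftAlgHom_root _ _ _ _

theorem eq_zero_of_ev (hζ : IsPrimitiveRoot ζ r) (e : AdjoinRoot g) (he : ∀ x (hx : x ∈ c), ev g c hg x hx e = 0) :
    e = 0 := by
  classical
  induction e using AdjoinRoot.induction_on with
  | _ f =>
    rw [AdjoinRoot.mk_eq_zero, ← map_dvd_map' (algebraMap F L), hg, Pm]
    refine Finset.prod_dvd_of_coprime (fun a _ b _ hab => IsCoprime.pow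
      (isCoprime_X_sub_C_of_isUnit_sub (sub_ne_zero.mpr fun h => hab (zp_inj hζ h)).isUnit)) fun x _ => ?_
    by_cases hx : x ∈ c
    · rw [if_pos hx, pow_one, dvd_iff_isRoot, IsRoot.def, ← ev_mk hg x hx]
      exact he x hx
    · rw [if_neg hx, pow_zero]; exact one_dvd _

theorem coeff_zero_of_sum (hζ : IsPrimitiveRoot ζ r) (a : {x // x ∈ c} → L)
    (h : ∀ e : AdjoinRoot g, ∑ x, a x * ev g c hg x.1 x.2 e = 0) (x : {x // x ∈ c}) : a x = 0 := by
  classical
  have hP : ∀ P : L[X], ∑ y, a y * P.eval (zp ζ y.1) = 0 := by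
    intro P
    induction P using Polynomial.induction_on' with
    | add p q hp hq => simp only [eval_add, mul_add, Finset.sum_add_distrib, hp, hq, add_zero]
    | monomial k b =>
      have := h (AdjoinRoot.root g ^ k)
      simp only [map_pow, ev_root] at this
      calc ∑ y, a y * (monomial k b).eval (zp ζ y.1) = b * ∑ y, a y * zp ζ y.1 ^ k := by
            rw [Finset.mul_sum]; exact Finset.sum_congr rfl fun y _ => by rw [eval_monomial]; ring
        _ = 0 := by rw [this, mul_zero]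
  have h1 := hP (∏ y ∈ Finset.univ.erase x, (X - C (zp ζ y.1)))
  rw [Finset.sum_eq_single x] at h1
  · refine (mul_eq_zero.mp h1).resolve_right ?_
    rw [eval_prod]
    refine Finset.prod_ne_zero_iff.mpr ?_
    intro y hy
    rw [eval_sub, eval_X, eval_C, sub_ne_zero]
    exact fun h => (Finset.ne_of_mem_erase hy) (Subtype.ext (zp_inj hζ h.symm))
  · intro y _ hy
    rw [eval_prod, Finset.prod_eq_zero (Finset.mem_erase.mpr ⟨hy, Finset.mem_univ _⟩) (by simp), mul_zero]
  · simp

variable {uq : (ZMod r)ˣ}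

theorem ev_pow (hζ : IsPrimitiveRoot ζ r) (huq : (uq : ZMod r) = (Fintype.card F : ZMod r)) (x : ZMod r)
    (hx : x ∈ c) (hx' : (uq : ZMod r) * x ∈ c) (e : AdjoinRoot g) :
    ev g c hg x hx e ^ Fintype.card F = ev g c hg _ hx' e := by
  induction e using AdjoinRoot.induction_on with
  | _ f =>
    obtain ⟨φ, hφ, hφa⟩ := exists_frob (L := L) F
    rw [ev_mk, ev_mk, ← hφ, eval_map, hom_eval₂, hφa, hφ, huq, ← zp_pow hζ, eval_map]

variable (hQc : ∀ x ∈ c, (uq : ZMod r) * x ∈ c) (hneg : ∀ x ∈ c, -x ∈ c)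

include hQc in
/-- Pairing of a block twisted by a Frobenius-compatible weight. -/
theorem exists_form (hζ : IsPrimitiveRoot ζ r) (huq : (uq : ZMod r) = (Fintype.card F : ZMod r))
    (κ : ZMod r → L) (hκ : ∀ x ∈ c, κ ((uq : ZMod r) * x) = κ x ^ Fintype.card F) :
    ∃ B : LinearMap.BilinForm F (AdjoinRoot g), ∀ a b, algebraMap F L (B a b) =
      ∑ x : {x // x ∈ c}, κ x.1 * (ev g c hg x.1 x.2 a * ev g c hg (-x.1) (hneg _ x.2) b) := by
  classical
  obtain ⟨φ, hφ, -⟩ := exists_frob (L := L) F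
  have hmem : ∀ a b, ∃ t : F, algebraMap F L t =
      ∑ x : {x // x ∈ c}, κ x.1 * (ev g c hg x.1 x.2 a * ev g c hg (-x.1) (hneg _ x.2) b) := fun a b => by
    refine mem_range_of_pow_card ?_
    rw [← hφ, map_sum]
    simp only [map_mul, hφ]
    let σ : {x // x ∈ c} → {x // x ∈ c} := fun x => ⟨(uq : ZMod r) * x.1, hQc _ x.2⟩
    have hσ : Function.Bijective σ := Finite.injective_iff_bijective.mp fun x y h =>
      Subtype.ext (uq.isUnit.mul_left_cancel (congrArg Subtype.val h))
    refine Fintype.sum_bijective σ hσ _ _ fun x => ?_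
    show _ = κ ((uq : ZMod r) * x.1) * _
    rw [hκ _ x.2, mul_pow, mul_pow, ev_pow hg hζ huq x.1 x.2 (hQc _ x.2), ev_pow hg hζ huq (-x.1) (hneg _ x.2) (hQc _ (hneg _ x.2))]
    simp only [mul_neg]
    rfl
  choose Bf hBf using hmem
  refine ⟨LinearMap.mk₂ F Bf (fun a a' b => ?_) (fun t a b => ?_) (fun a b b' => ?_) (fun t a b => ?_), hBf⟩
  · apply (algebraMap F L).injective
    rw [map_add, hBf, hBf, hBf, ← Finset.sum_add_distrib]
    exact Finset.sum_congr rfl fun x _ => by rw [map_add]; ring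
  · apply (algebraMap F L).injective
    rw [smul_eq_mul, map_mul, hBf, hBf, Finset.mul_sum]
    exact Finset.sum_congr rfl fun x _ => by rw [map_smul, Algebra.smul_def]; ring
  · apply (algebraMap F L).injective
    rw [map_add, hBf, hBf, hBf, ← Finset.sum_add_distrib]
    exact Finset.sum_congr rfl fun x _ => by rw [map_add]; ring
  · apply (algebraMap F L).injective
    rw [smul_eq_mul, map_mul, hBf, hBf, Finset.mul_sum]
    exact Finset.sum_congr rfl fun x _ => by rw [map_smul, Algebra.smul_def]; ring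

theorem form_nondeg (hζ : IsPrimitiveRoot ζ r) (κ : ZMod r → L) (hκ0 : ∀ x ∈ c, κ x ≠ 0)
    (B : LinearMap.BilinForm F (AdjoinRoot g)) (hB : ∀ a b, algebraMap F L (B a b) =
      ∑ x : {x // x ∈ c}, κ x.1 * (ev g c hg x.1 x.2 a * ev g c hg (-x.1) (hneg _ x.2) b))
    (b : AdjoinRoot g) (h : ∀ a, B a b = 0) : b = 0 := by
  refine eq_zero_of_ev hg hζ b fun x hx => ?_
  have h1 := coeff_zero_of_sum hg hζ (fun y => κ y.1 * ev g c hg (-y.1) (hneg _ y.2) b) (fun a => by
    refine Eq.trans (Finset.sum_congr rfl fun y _ => ?_) (((hB a b).symm.trans (by rw [h a, map_zero])))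
    ring) ⟨-x, hneg x hx⟩
  have h2 := (mul_eq_zero.mp h1).resolve_left (hκ0 _ (hneg x hx))
  simpa [neg_neg] using h2

theorem form_isometry (hζ : IsPrimitiveRoot ζ r) (κ : ZMod r → L)
    (B : LinearMap.BilinForm F (AdjoinRoot g)) (hB : ∀ a b, algebraMap F L (B a b) =
      ∑ x : {x // x ∈ c}, κ x.1 * (ev g c hg x.1 x.2 a * ev g c hg (-x.1) (hneg _ x.2) b))
    (a b : AdjoinRoot g) : B (AdjoinRoot.root g * a) (AdjoinRoot.root g * b) = B a b := by
  apply (algebraMap F L).injective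
  rw [hB, hB]
  refine Finset.sum_congr rfl fun x _ => ?_
  rw [map_mul, map_mul, ev_root, ev_root, zp_neg hζ]
  have := zp_ne_zero hζ x.1
  field_simp

include hg in
theorem exists_matrix_data (hζ : IsPrimitiveRoot ζ r) (hgm : g.Monic) :
    ∃ (d : ℕ) (e : (Fin d → F) ≃ₗ[F] AdjoinRoot g) (A : Matrix (Fin d) (Fin d) F),
      (∀ v, e (A *ᵥ v) = AdjoinRoot.root g * e v) ∧ A ^ r = 1 ∧ A.charpoly = g := by
  let pb := AdjoinRoot.powerBasis hgm.ne_zero
  let A := Algebra.leftMulMatrix pb.basis (AdjoinRoot.root g)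
  refine ⟨pb.dim, pb.basis.equivFun.symm, A, fun v => ?_, ?_, ?_⟩
  · rw [LinearEquiv.symm_apply_eq]
    funext i
    rw [Module.Basis.equivFun_apply]
    conv_rhs => rw [show AdjoinRoot.root g * pb.basis.equivFun.symm v =
      AdjoinRoot.root g * pb.basis.equivFun.symm v from rfl]
    rw [← Algebra.leftMulMatrix_mulVec_repr pb.basis (AdjoinRoot.root g) (pb.basis.equivFun.symm v),
      ← Module.Basis.equivFun_apply, LinearEquiv.apply_symm_apply]
  · rw [← map_pow]
    have : AdjoinRoot.root g ^ r = 1 := sub_eq_zero.mp (eq_zero_of_ev hg hζ _ fun x hx => by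
      rw [map_sub, map_pow, ev_root, map_one, zp_pow hζ, ZMod.natCast_self, zero_mul, zp_zero, sub_self])
    rw [this, map_one]
  · show (Algebra.leftMulMatrix pb.basis (AdjoinRoot.root g)).charpoly = g
    have h := charpoly_leftMulMatrix pb
    rw [show pb.gen = AdjoinRoot.root g from AdjoinRoot.powerBasis_gen hgm.ne_zero] at h
    rw [h, AdjoinRoot.minpoly_root hgm.ne_zero, hgm.leadingCoeff, inv_one, C_1, mul_one]

theorem neg_ne_self (hr2 : r ≠ 2) {x : ZMod r} (hx : x ≠ 0) : -x ≠ x := by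
  intro h
  have : (2 : ZMod r) * x = 0 := by linear_combination -h
  rcases mul_eq_zero.mp this with h2 | h2
  · have h3 : ((2 : ℕ) : ZMod r) = 0 := h2
    rw [ZMod.natCast_eq_zero_iff] at h3
    exact hr2 ((Nat.prime_dvd_prime_iff_eq Fact.out Nat.prime_two).mp h3)
  · exact hx h2

include hg hQc hneg in
/-- A block carries an invariant non-degenerate alternating form. -/
theorem altReal_block (hζ : IsPrimitiveRoot ζ r) (huq : (uq : ZMod r) = (Fintype.card F : ZMod r))
    (hr2 : r ≠ 2) (hgm : g.Monic) (hc0 : (0 : ZMod r) ∉ c) : AltReal r g := by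
  classical
  obtain ⟨φ, hφ, -⟩ := exists_frob (L := L) F
  let κ : ZMod r → L := fun x => zp ζ x - zp ζ (-x)
  have hκ0 : ∀ x ∈ c, κ x ≠ 0 := fun x hx => sub_ne_zero.mpr fun h =>
    neg_ne_self hr2 (fun h0 => hc0 (h0 ▸ hx)) (zp_inj hζ h).symm
  have hκ : ∀ x ∈ c, κ ((uq : ZMod r) * x) = κ x ^ Fintype.card F := fun x _ => by
    show _ - _ = _
    rw [← hφ, map_sub, hφ, hφ, zp_pow hζ, zp_pow hζ, huq, mul_neg]
  obtain ⟨B, hB⟩ := exists_form hg hQc hneg hζ huq κ hκ
  obtain ⟨d, e, A, heA, hAr, hAp⟩ := exists_matrix_data hg hζ hgm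
  let B' : LinearMap.BilinForm F (Fin d → F) := B.compl₁₂ e.toLinearMap e.toLinearMap
  have hJ : ∀ u v, u ⬝ᵥ (LinearMap.BilinForm.toMatrix' B' *ᵥ v) = B (e u) (e v) := fun u v => by
    rw [← Matrix.toBilin'_apply', Matrix.toBilin'_toMatrix']; rfl
  refine ⟨Fin d, inferInstance, inferInstance, LinearMap.BilinForm.toMatrix' B', A, fun v => ?_, ?_, ?_, hAr, hAp⟩
  · rw [hJ]
    apply (algebraMap F L).injective
    rw [hB, map_zero]
    refine Finset.sum_involution (fun x _ => (⟨-x.1, hneg _ x.2⟩ : {x // x ∈ c})) (fun x _ => ?_) (fun x _ _ h => ?_)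
      (fun x _ => Finset.mem_univ _) (fun x _ => Subtype.ext (neg_neg _))
    · simp only [κ, neg_neg]; ring
    · exact neg_ne_self hr2 (fun h0 => hc0 (h0 ▸ x.2)) (congrArg Subtype.val h)
  · refine Matrix.mulVec_injective_iff_isUnit.mp fun v w hvw => e.injective (sub_eq_zero.mp ?_)
    refine form_nondeg hg hneg hζ κ hκ0 B hB _ fun a => ?_
    rw [map_sub, ← e.apply_symm_apply a, ← hJ, ← hJ, ← Matrix.toBilin'_apply', ← Matrix.toBilin'_apply']
    simp only [Matrix.toBilin'_apply'] at *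
    rw [hvw, sub_self]
  · refine Matrix.ext_iff_mulVec.mpr fun v => dotProduct_eq _ _ fun u => ?_
    rw [dotProduct_comm, dotProduct_comm _ u]
    calc u ⬝ᵥ ((Aᵀ * LinearMap.BilinForm.toMatrix' B' * A) *ᵥ v)
        = (A *ᵥ u) ⬝ᵥ (LinearMap.BilinForm.toMatrix' B' *ᵥ (A *ᵥ v)) := by
          rw [← Matrix.mulVec_mulVec, ← Matrix.mulVec_mulVec, Matrix.dotProduct_mulVec, Matrix.vecMul_transpose]
      _ = u ⬝ᵥ (LinearMap.BilinForm.toMatrix' B' *ᵥ v) := by
          rw [hJ, hJ, heA, heA, form_isometry hg hneg hζ κ B hB]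

include hg hQc hneg in
/-- A block carries an invariant non-degenerate quadratic form. -/
theorem quadReal_block (hζ : IsPrimitiveRoot ζ r) (huq : (uq : ZMod r) = (Fintype.card F : ZMod r))
    (hr2 : r ≠ 2) (hgm : g.Monic) (hc0 : (0 : ZMod r) ∉ c) : QuadReal r g := by
  classical
  obtain ⟨φ, hφ, -⟩ := exists_frob (L := L) F
  have hne : ∀ x ∈ c, 1 + zp ζ x ≠ 0 := by
    intro x hx h
    have h1 : zp ζ x = -1 := by linear_combination h
    have h2 : zp ζ x ^ 2 = 1 := by rw [h1]; ring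
    rw [zp_pow hζ] at h2
    have h3 : ((2 : ℕ) : ZMod r) * x = 0 := zp_inj hζ (h2.trans zp_zero.symm)
    exact neg_ne_self hr2 (fun h0 => hc0 (h0 ▸ hx)) (by push_cast at h3; linear_combination -h3)
  let κ : ZMod r → L := fun x => (1 + zp ζ x)⁻¹
  have hκ : ∀ x ∈ c, κ ((uq : ZMod r) * x) = κ x ^ Fintype.card F := fun x _ => by
    show _ = ((1 + zp ζ x)⁻¹) ^ _
    rw [← hφ, map_inv₀, map_add, map_one, hφ, zp_pow hζ, huq]
  obtain ⟨B, hB⟩ := exists_form hg hQc hneg hζ huq κ hκ
  obtain ⟨D, hD⟩ := exists_form hg hQc hneg hζ huq (fun _ => (1 : L)) (fun x _ => by rw [one_pow])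
  obtain ⟨d, e, A, heA, hAr, hAp⟩ := exists_matrix_data hg hζ hgm
  have hsym : ∀ a b, B a b + B b a = D a b := by
    intro a b
    apply (algebraMap F L).injective
    rw [map_add, hB, hB, hD]
    let σ : {x // x ∈ c} ≃ {x // x ∈ c} :=
      { toFun := fun x => ⟨-x.1, hneg _ x.2⟩
        invFun := fun x => ⟨-x.1, hneg _ x.2⟩
        left_inv := fun x => Subtype.ext (neg_neg _)
        right_inv := fun x => Subtype.ext (neg_neg _) }
    rw [← σ.sum_comp (fun x => κ x.1 * (ev g c hg x.1 x.2 b * ev g c hg (-x.1) (hneg _ x.2) a)),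
      ← Finset.sum_add_distrib]
    refine Finset.sum_congr rfl fun x _ => ?_
    simp only [σ, Equiv.coe_fn_mk, neg_neg, κ, zp_neg hζ]
    have := hne _ x.2
    have := zp_ne_zero hζ x.1
    rw [mul_comm (ev g c hg (-x.1) _ b) (ev g c hg x.1 x.2 a), ← add_mul]
    have h1 : (1 + zp ζ x.1)⁻¹ + (1 + (zp ζ x.1)⁻¹)⁻¹ = 1 := by
      rw [show 1 + (zp ζ x.1)⁻¹ = (1 + zp ζ x.1) / zp ζ x.1 by field_simp; ring, inv_div]
      field_simp
    rw [h1]
  let Q : (Fin d → F) → F := fun v => B (e v) (e v)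
  let B' : LinearMap.BilinForm F (Fin d → F) := D.compl₁₂ e.toLinearMap e.toLinearMap
  refine ⟨Fin d, inferInstance, inferInstance, Q, B', ⟨fun t v => ?_, fun u v => ?_, fun v hv => ?_⟩,
    A, fun v => ?_, hAr, hAp⟩
  · show B (e (t • v)) (e (t • v)) = t ^ 2 * B (e v) (e v)
    simp only [map_smul, LinearMap.smul_apply, smul_eq_mul]; ring
  · show B (e (u + v)) (e (u + v)) - B (e u) (e u) - B (e v) (e v) = D (e u) (e v)
    rw [← hsym]
    simp only [map_add, LinearMap.add_apply]; ring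
  · refine e.injective ((form_nondeg hg hneg hζ (fun _ => (1 : L)) (fun _ _ => one_ne_zero) D hD (e v)
      fun a => ?_).trans (map_zero e).symm)
    have := hv (e.symm a)
    show D a (e v) = 0
    rw [← e.apply_symm_apply a]
    exact this
  · show B (e (A *ᵥ v)) (e (A *ᵥ v)) = B (e v) (e v)
    rw [heA, form_isometry hg hneg hζ κ B hB]

end block

end Cfsg.Agent.Lib.Linear.PrimeClasses
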