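import Cfsg.Agent.Lib.Linear.PrimeClasses.Blocks
import Cfsg.Agent.Lib.Linear.OrthSum

set_option linter.style.haveILetI false

/-!
# Composing blocks: every invariant multiplicity function is realised
-/

set_option autoImplicit false

universe u

namespace Cfsg.Agent.Lib.Linear.PrimeClasses

open Polynomial
open scoped Matrix

section mul

variable {F : Type u} [Field F] {r : ℕ}

theorem fromBlocks_pow {ι κ : Type} [Fintype ι] [DecidableEq ι] [Fintype κ] [DecidableEq κ] (A : Matrix ι ι F)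
    (B : Matrix κ κ F) (k : ℕ) : Matrix.fromBlocks A 0 0 B ^ k = Matrix.fromBlocks (A ^ k) 0 0 (B ^ k) := by
  induction k with
  | zero => simp [Matrix.fromBlocks_one]
  | succ k ih => rw [pow_succ, ih, Matrix.fromBlocks_multiply]; simp [pow_succ]

theorem sum_dot {ι κ : Type} [Fintype ι] [Fintype κ] (u : ι → F) (u' : κ → F) (v : ι → F) (v' : κ → F) :
    Sum.elim u u' ⬝ᵥ Sum.elim v v' = u ⬝ᵥ v + u' ⬝ᵥ v' := by
  simp [dotProduct, Fintype.sum_sum_type]

theorem AltReal.mul {P P' : F[X]} (h : AltReal r P) (h' : AltReal r P') : AltReal r (P * P') := by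
  obtain ⟨ι, _, _, J, A, hJ, hJu, hA, hAr, hAp⟩ := h
  obtain ⟨κ, _, _, J', A', hJ', hJu', hA', hAr', hAp'⟩ := h'
  refine ⟨ι ⊕ κ, inferInstance, inferInstance, Matrix.fromBlocks J 0 0 J', Matrix.fromBlocks A 0 0 A',
    fun v => ?_, Matrix.isUnit_fromBlocks_zero₁₂.mpr ⟨hJu, hJu'⟩, ?_, ?_, ?_⟩
  · rw [← Sum.elim_comp_inl_inr v, Matrix.fromBlocks_mulVec, sum_dot]
    simp only [Sum.elim_comp_inl, Sum.elim_comp_inr, Matrix.zero_mulVec, add_zero, zero_add, hJ, hJ']
  · rw [Matrix.fromBlocks_transpose, Matrix.fromBlocks_multiply, Matrix.fromBlocks_multiply]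
    simp [hA, hA']
  · rw [fromBlocks_pow, hAr, hAr', Matrix.fromBlocks_one]
  · rw [Matrix.charpoly_fromBlocks_zero₁₂, hAp, hAp']

theorem AltReal.one : AltReal r (1 : F[X]) :=
  ⟨Fin 0, inferInstance, inferInstance, 1, 1, fun v => by simp [dotProduct], isUnit_one, Subsingleton.elim _ _,
    one_pow r, Matrix.charpoly_isEmpty⟩

theorem QuadReal.mul {P P' : F[X]} (h : QuadReal r P) (h' : QuadReal r P') : QuadReal r (P * P') := by
  obtain ⟨ι, _, _, Q, B, C, A, hA, hAr, hAp⟩ := h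
  obtain ⟨κ, _, _, R, D, C', A', hA', hAr', hAp'⟩ := h'
  refine ⟨ι ⊕ κ, inferInstance, inferInstance, Cfsg.Lib.Linear.Orth.sumQ Q R, Cfsg.Lib.Linear.Orth.sumB B D,
    C.sum C', Matrix.fromBlocks A 0 0 A', fun v => ?_, ?_, ?_⟩
  · rw [Cfsg.Lib.Linear.Orth.sumQ, Cfsg.Lib.Linear.Orth.sumQ, Matrix.fromBlocks_mulVec]
    simp [hA, hA']
  · rw [fromBlocks_pow, hAr, hAr', Matrix.fromBlocks_one]
  · rw [Matrix.charpoly_fromBlocks_zero₁₂, hAp, hAp']

theorem QuadReal.one : QuadReal r (1 : F[X]) :=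
  ⟨Fin 0, inferInstance, inferInstance, fun _ => 0, 0,
    ⟨fun _ _ => (mul_zero _).symm, fun _ _ => by simp [QuadraticMap.polar], fun _ _ => Subsingleton.elim _ _⟩,
    1, fun _ => rfl, one_pow r, Matrix.charpoly_isEmpty⟩

end mul

variable {F : Type u} [Field F] [Fintype F] {L : Type u} [Field L] [Algebra F L] [IsAlgClosed L]
  {r : ℕ} [Fact r.Prime] {ζ : L}

/-- The orbit of a residue under the powers of a unit. -/
noncomputable def orbit (w : (ZMod r)ˣ) (x : ZMod r) : Finset (ZMod r) :=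
  Finset.univ.image fun k : Fin (orderOf w) => ((w : ZMod r) ^ (k : ℕ)) * x

theorem mem_orbit {w : (ZMod r)ˣ} {x y : ZMod r} : y ∈ orbit w x ↔ ∃ k : ℕ, y = (w : ZMod r) ^ k * x := by
  constructor
  · intro h
    obtain ⟨k, -, rfl⟩ := Finset.mem_image.mp h
    exact ⟨k, rfl⟩
  · rintro ⟨k, rfl⟩
    refine Finset.mem_image.mpr ⟨⟨k % orderOf w, Nat.mod_lt _ (orderOf_pos w)⟩, Finset.mem_univ _, ?_⟩
    show (w : ZMod r) ^ (k % orderOf w) * x = _
    rw [← Units.val_pow_eq_pow_val, pow_mod_orderOf, Units.val_pow_eq_pow_val]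

theorem inv_pow {w : (ZMod r)ˣ} {n : ℕ} {m : ZMod r → ℕ} (hm : Inv w n m) (k : ℕ) (x : ZMod r) :
    m ((w : ZMod r) ^ k * x) = m x := by
  induction k with
  | zero => simp
  | succ k ih => rw [pow_succ', mul_assoc, hm.2, ih]

/-- Induction over orbits: a multiplicative property of all blocks holds of all invariant functions. -/
theorem real_induction (Φ : F[X] → Prop) (h1 : Φ 1) (hmul : ∀ P P', Φ P → Φ P' → Φ (P * P'))
    (hζ : IsPrimitiveRoot ζ r) {uq : (ZMod r)ˣ} (huq : (uq : ZMod r) = (Fintype.card F : ZMod r))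
    (w : (ZMod r)ˣ) (hwq : ∃ k : ℕ, uq = w ^ k)
    (hblock : ∀ (c : Finset (ZMod r)) (g : F[X]), g.Monic →
      g.map (algebraMap F L) = Pm ζ (fun x => if x ∈ c then 1 else 0) →
      (∀ x ∈ c, (w : ZMod r) * x ∈ c) → (0 : ZMod r) ∉ c → Φ g) :
    ∀ (n : ℕ) (m : ZMod r → ℕ), Inv w n m → m 0 = 0 → ∀ P : F[X], P.map (algebraMap F L) = Pm ζ m → Φ P := by
  classical
  obtain ⟨kq, hkq⟩ := hwq
  intro n
  induction n using Nat.strong_induction_on with
  | _ n ih =>
    intro m hm hm0 P hP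
    by_cases h0 : m = 0
    · subst h0
      rw [Pm_zero, ← Polynomial.map_one (algebraMap F L)] at hP
      rw [Polynomial.map_injective _ (algebraMap F L).injective hP]
      exact h1
    obtain ⟨x, hx⟩ : ∃ x, m x ≠ 0 := Function.ne_iff.mp h0
    let c := orbit w x
    let ind : ZMod r → ℕ := fun y => if y ∈ c then 1 else 0
    let m' : ZMod r → ℕ := fun y => m y - ind y
    have hle : ∀ y, ind y ≤ m y := fun y => by
      show (if y ∈ c then 1 else 0) ≤ m y
      split_ifs with hy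
      · obtain ⟨k, rfl⟩ := mem_orbit.mp hy
        rw [inv_pow hm]
        omega
      · exact Nat.zero_le _
    have hsum : ind + m' = m := funext fun y => by
      show ind y + (m y - ind y) = m y
      have := hle y; omega
    have hc0 : (0 : ZMod r) ∉ c := fun h => by
      have := hle 0
      rw [hm0, show ind 0 = 1 from if_pos h] at this
      omega
    have hwc : ∀ y ∈ c, (w : ZMod r) * y ∈ c := fun y hy => by
      obtain ⟨k, rfl⟩ := mem_orbit.mp hy
      exact mem_orbit.mpr ⟨k + 1, by rw [pow_succ', mul_assoc]⟩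
    have hwi : ∀ y, ind ((w : ZMod r) * y) = ind y := fun y => by
      refine if_congr ⟨fun hy => ?_, hwc y⟩ rfl rfl
      obtain ⟨k, hk⟩ := mem_orbit.mp hy
      refine mem_orbit.mpr ⟨k + (orderOf w - 1), ?_⟩
      have h1 : (w : ZMod r) ^ (orderOf w - 1) * (w : ZMod r) = 1 := by
        rw [← pow_succ, Nat.sub_add_cancel (orderOf_pos w), ← Units.val_pow_eq_pow_val, pow_orderOf_eq_one,
          Units.val_one]
      calc y = (w : ZMod r) ^ (orderOf w - 1) * ((w : ZMod r) * y) := by rw [← mul_assoc, h1, one_mul]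
        _ = _ := by rw [hk, ← mul_assoc, ← pow_add, add_comm]
    have hpos : 1 ≤ ∑ y, ind y := by
      refine le_trans ?_ (Finset.single_le_sum (fun y _ => Nat.zero_le _) (Finset.mem_univ x))
      exact (if_pos (mem_orbit.mpr ⟨0, by simp⟩)).ge
    have hn : ∑ y, ind y + ∑ y, m' y = n := by
      rw [← Finset.sum_add_distrib, ← hm.1]
      exact Finset.sum_congr rfl fun y _ => congrFun hsum y
    have hm' : Inv w (∑ y, m' y) m' := ⟨rfl, fun y => by show m _ - ind _ = m y - ind y; rw [hm.2, hwi]⟩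
    have hq : ∀ (f : ZMod r → ℕ), (∀ y, f ((w : ZMod r) * y) = f y) → ∀ y, f ((uq : ZMod r) * y) = f y := by
      intro f hf y
      rw [hkq, Units.val_pow_eq_pow_val]
      exact inv_pow (n := ∑ z, f z) ⟨rfl, hf⟩ kq y
    obtain ⟨g, hgm, hg⟩ := exists_descent (F := F) hζ huq ind (hq ind hwi)
    obtain ⟨P', -, hP'⟩ := exists_descent (F := F) hζ huq m' (hq m' hm'.2)
    have hPP : P = g * P' := Polynomial.map_injective _ (algebraMap F L).injective
      (by rw [Polynomial.map_mul, hg, hP', ← Pm_add, hsum, hP])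
    rw [hPP]
    exact hmul _ _ (hblock c g hgm hg hwc hc0)
      (ih _ (by omega) m' hm' (by show m 0 - ind 0 = 0; rw [hm0, Nat.zero_sub]) P' hP')

theorem altReal_of_inv (hζ : IsPrimitiveRoot ζ r) {uq : (ZMod r)ˣ}
    (huq : (uq : ZMod r) = (Fintype.card F : ZMod r)) (hr2 : r ≠ 2) (w : (ZMod r)ˣ)
    (hwq : ∃ k : ℕ, uq = w ^ k) (hwn : ∃ k : ℕ, (-1 : (ZMod r)ˣ) = w ^ k)
    {n : ℕ} {m : ZMod r → ℕ} (hm : Inv w n m) (hm0 : m 0 = 0) (P : F[X])
    (hP : P.map (algebraMap F L) = Pm ζ m) : AltReal r P := by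
  refine real_induction (F := F) (AltReal r) AltReal.one (fun P P' => AltReal.mul) hζ huq w hwq
    (fun c g hgm hg hwc hc0 => ?_) n m hm hm0 P hP
  have hpow : ∀ k : ℕ, ∀ x ∈ c, (w : ZMod r) ^ k * x ∈ c := fun k => by
    induction k with
    | zero => simp
    | succ k ih => intro x hx; rw [pow_succ', mul_assoc]; exact hwc _ (ih x hx)
  obtain ⟨k, hk⟩ := hwq
  obtain ⟨l, hl⟩ := hwn
  exact altReal_block (uq := uq) hg (fun x hx => by rw [hk, Units.val_pow_eq_pow_val]; exact hpow k x hx)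
    (fun x hx => by
      have := hpow l x hx
      rwa [← Units.val_pow_eq_pow_val, ← hl, Units.val_neg, Units.val_one, neg_one_mul] at this)
    hζ huq hr2 hgm hc0

theorem quadReal_of_inv (hζ : IsPrimitiveRoot ζ r) {uq : (ZMod r)ˣ}
    (huq : (uq : ZMod r) = (Fintype.card F : ZMod r)) (hr2 : r ≠ 2) (w : (ZMod r)ˣ)
    (hwq : ∃ k : ℕ, uq = w ^ k) (hwn : ∃ k : ℕ, (-1 : (ZMod r)ˣ) = w ^ k)
    {n : ℕ} {m : ZMod r → ℕ} (hm : Inv w n m) (hm0 : m 0 = 0) (P : F[X])
    (hP : P.map (algebraMap F L) = Pm ζ m) : QuadReal r P := by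
  refine real_induction (F := F) (QuadReal r) QuadReal.one (fun P P' => QuadReal.mul) hζ huq w hwq
    (fun c g hgm hg hwc hc0 => ?_) n m hm hm0 P hP
  have hpow : ∀ k : ℕ, ∀ x ∈ c, (w : ZMod r) ^ k * x ∈ c := fun k => by
    induction k with
    | zero => simp
    | succ k ih => intro x hx; rw [pow_succ', mul_assoc]; exact hwc _ (ih x hx)
  obtain ⟨k, hk⟩ := hwq
  obtain ⟨l, hl⟩ := hwn
  exact quadReal_block (uq := uq) hg (fun x hx => by rw [hk, Units.val_pow_eq_pow_val]; exact hpow k x hx)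
    (fun x hx => by
      have := hpow l x hx
      rwa [← Units.val_pow_eq_pow_val, ← hl, Units.val_neg, Units.val_one, neg_one_mul] at this)
    hζ huq hr2 hgm hc0

end Cfsg.Agent.Lib.Linear.PrimeClasses
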