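import Mathlib

/-!
# Counting multiplicity functions on the residues modulo a prime
-/

set_option autoImplicit false

namespace Cfsg.Agent.Lib.Linear.PrimeClasses

open Finset

theorem card_sum_eq {ι : Type*} [Fintype ι] (k : ℕ) :
    Nat.card {a : ι → ℕ // ∑ i, a i = k} = (Fintype.card ι + k - 1).choose k := by
  classical
  rw [Nat.card_congr (Sym.equivNatSumOfFintype ι k).symm, Nat.card_eq_fintype_card, Sym.card_sym_eq_choose]

theorem card_sum_le {ι : Type*} [Fintype ι] (k : ℕ) :
    Nat.card {a : ι → ℕ // ∑ i, a i ≤ k} = (k + Fintype.card ι).choose (Fintype.card ι) := by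
  let e : {a : ι → ℕ // ∑ i, a i ≤ k} ≃ {b : Option ι → ℕ // ∑ i, b i = k} :=
    { toFun := fun a => ⟨fun o => o.elim (k - ∑ i, a.1 i) a.1, by
        rw [Fintype.sum_option]; simp only [Option.elim_none, Option.elim_some]; have := a.2; omega⟩
      invFun := fun b => ⟨fun i => b.1 (some i), by
        have := b.2; rw [Fintype.sum_option] at this; exact (Nat.le_add_left _ _).trans this.le⟩
      left_inv := fun a => rfl
      right_inv := fun b => by
        refine Subtype.ext (funext fun o => ?_)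
        cases o with
        | some i => rfl
        | none =>
          show k - ∑ i, b.1 (some i) = b.1 none
          have := b.2; rw [Fintype.sum_option] at this
          exact (Nat.eq_sub_of_add_eq this).symm }
  rw [Nat.card_congr e, card_sum_eq, Fintype.card_option]
  rw [show Fintype.card ι + 1 + k - 1 = k + Fintype.card ι by omega, Nat.choose_symm_add]

/-- Multiplicity functions of total `n` invariant under multiplication by `w`. -/
def Inv {r : ℕ} [NeZero r] (w : (ZMod r)ˣ) (n : ℕ) (m : ZMod r → ℕ) : Prop :=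
  ∑ x, m x = n ∧ ∀ x, m ((w : ZMod r) * x) = m x

instance {r : ℕ} [NeZero r] (w : (ZMod r)ˣ) (n : ℕ) : Finite {m : ZMod r → ℕ // Inv w n m} :=
  Finite.of_injective (fun m => fun x => (⟨m.1 x, Nat.lt_succ_of_le (by
      have := Finset.single_le_sum (f := m.1) (fun i _ => Nat.zero_le _) (Finset.mem_univ x)
      rw [m.2.1] at this; exact this)⟩ : Fin (n + 1)))
    fun a b h => Subtype.ext (funext fun x => congrArg Fin.val (congrFun h x))

variable {r : ℕ} [Fact r.Prime]

theorem sum_eq (m : ZMod r → ℕ) : ∑ x, m x = m 0 + ∑ u : (ZMod r)ˣ, m u := by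
  classical
  rw [Fintype.sum_eq_add_sum_compl (0 : ZMod r)]
  refine congrArg (m 0 + ·) ?_
  refine (Finset.sum_bij (fun (u : (ZMod r)ˣ) _ => (u : ZMod r)) (fun u _ => by simp)
    (fun a _ b _ h => Units.ext h) (fun x hx => ⟨Units.mk0 x (by simpa using hx), Finset.mem_univ _, rfl⟩)
    (fun _ _ => rfl)).symm

theorem inv_const {w : (ZMod r)ˣ} {n : ℕ} {m : ZMod r → ℕ} (h : Inv w n m) {u v : (ZMod r)ˣ}
    (huv : u⁻¹ * v ∈ Subgroup.zpowers w) : m v = m u := by
  let S : Subgroup (ZMod r)ˣ :=
    { carrier := {g | ∀ x, m ((g : ZMod r) * x) = m x}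
      one_mem' := fun x => by simp
      mul_mem' := fun {a b} ha hb x => by rw [Units.val_mul, mul_assoc, ha, hb]
      inv_mem' := fun {a} ha x => by
        conv_rhs => rw [← Units.mul_inv_cancel_left a x]
        exact (ha _).symm }
  have hw : Subgroup.zpowers w ≤ S := Subgroup.zpowers_le.mpr h.2
  have := hw huv u
  rwa [← Units.val_mul, inv_mul_cancel_comm] at this

noncomputable def cosetEquiv (w : (ZMod r)ˣ) (n : ℕ) : {m : ZMod r → ℕ // Inv w n m} ≃
    {a : (ZMod r)ˣ ⧸ Subgroup.zpowers w → ℕ // ∑ u : (ZMod r)ˣ, a u ≤ n} where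
  toFun m := ⟨fun c => Quotient.liftOn' c (fun u : (ZMod r)ˣ => m.1 u)
      (fun u v huv => (inv_const m.2 (QuotientGroup.leftRel_apply.mp huv)).symm), by
    show ∑ u : (ZMod r)ˣ, m.1 u ≤ n
    have := m.2.1
    rw [sum_eq] at this
    omega⟩
  invFun a := ⟨fun x => if h : x = 0 then n - ∑ u : (ZMod r)ˣ, a.1 u else a.1 ↑(Units.mk0 x h), by
    constructor
    · rw [sum_eq, dif_pos rfl]
      simp only [Units.ne_zero, dite_false, Units.mk0_val]
      have := a.2
      omega
    · intro x
      dsimp only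
      by_cases h : x = 0
      · rw [h, mul_zero]
      · rw [dif_neg h, dif_neg (mul_ne_zero (Units.ne_zero w) h)]
        refine congrArg a.1 (QuotientGroup.eq.mpr ?_)
        rw [Units.mk0_mul _ _ (mul_ne_zero (Units.ne_zero w) h), Units.mk0_val]
        simp⟩
  left_inv m := by
    refine Subtype.ext (funext fun x => ?_)
    by_cases h : x = 0
    · subst h
      simp only [dif_pos]
      show n - ∑ u : (ZMod r)ˣ, m.1 u = m.1 0
      have := m.2.1
      rw [sum_eq] at this
      omega
    · simp only [dif_neg h]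
      rfl
  right_inv a := by
    refine Subtype.ext (funext fun c => ?_)
    induction c using QuotientGroup.induction_on with
    | _ u =>
      show (if h : (u : ZMod r) = 0 then _ else _) = _
      rw [dif_neg (Units.ne_zero u), Units.mk0_val]

theorem sum_coset (w : (ZMod r)ˣ) (a : (ZMod r)ˣ ⧸ Subgroup.zpowers w → ℕ) :
    ∑ u : (ZMod r)ˣ, a u = orderOf w * ∑ c, a c := by
  classical
  have e : ∑ u : (ZMod r)ˣ, a u = ∑ p : ((ZMod r)ˣ ⧸ Subgroup.zpowers w) × Subgroup.zpowers w, a p.1 :=
    Fintype.sum_equiv Subgroup.groupEquivQuotientProdSubgroup _ _ (fun u => rfl)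
  rw [e, Fintype.sum_prod_type]
  simp only [Finset.sum_const, Finset.card_univ, smul_eq_mul, Fintype.card_zpowers]
  rw [Finset.mul_sum]

theorem card_quot (w : (ZMod r)ˣ) {s : ℕ} (hs : s * orderOf w = r - 1) :
    Nat.card ((ZMod r)ˣ ⧸ Subgroup.zpowers w) = s := by
  have h := (Subgroup.card_eq_card_quotient_mul_card_subgroup (Subgroup.zpowers w))
  rw [Nat.card_zpowers, Nat.card_eq_fintype_card (α := (ZMod r)ˣ), ZMod.card_units, ← hs] at h
  exact (Nat.eq_of_mul_eq_mul_right (orderOf_pos w) h).symm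

theorem mul_le_iff_le_div' {h S n : ℕ} (hh : 0 < h) : h * S ≤ n ↔ S ≤ n / h := by
  rw [Nat.le_div_iff_mul_le hh, mul_comm]

theorem card_inv (w : (ZMod r)ˣ) (n : ℕ) {s : ℕ} (hs : s * orderOf w = r - 1) :
    Nat.card {m : ZMod r → ℕ // Inv w n m} = (n / orderOf w + s).choose s := by
  classical
  rw [Nat.card_congr (cosetEquiv w n)]
  rw [Nat.card_congr (Equiv.subtypeEquivRight
    (q := fun a : (ZMod r)ˣ ⧸ Subgroup.zpowers w → ℕ => ∑ c, a c ≤ n / orderOf w)
    (fun a => by rw [sum_coset, mul_le_iff_le_div' (orderOf_pos w)]))]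
  rw [card_sum_le, ← Nat.card_eq_fintype_card, card_quot w hs]

theorem card_inv_full (w : (ZMod r)ˣ) (n : ℕ) {s : ℕ} (hs : s * orderOf w = r - 1) :
    Nat.card {m : ZMod r → ℕ // Inv w n m ∧ m 0 = 0} =
      if orderOf w ∣ n then (n / orderOf w + s - 1).choose (s - 1) else 0 := by
  classical
  have hs1 : 1 ≤ s := Nat.pos_of_ne_zero fun h => by
    have := (Fact.out : r.Prime).two_le
    subst h; omega
  let e : {m : ZMod r → ℕ // Inv w n m ∧ m 0 = 0} ≃
      {a : (ZMod r)ˣ ⧸ Subgroup.zpowers w → ℕ // orderOf w * ∑ c, a c = n} :=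
    { toFun := fun m => ⟨(cosetEquiv w n ⟨m.1, m.2.1⟩).1, by
        rw [← sum_coset]
        have := m.2.1.1
        rw [sum_eq, m.2.2, zero_add] at this
        exact this⟩
      invFun := fun a => ⟨((cosetEquiv w n).symm ⟨a.1, (sum_coset w a.1).trans_le a.2.le⟩).1,
        ((cosetEquiv w n).symm ⟨a.1, (sum_coset w a.1).trans_le a.2.le⟩).2, by
          show (if h : (0 : ZMod r) = 0 then n - ∑ u : (ZMod r)ˣ, a.1 u else _) = 0
          rw [dif_pos rfl, sum_coset, a.2, Nat.sub_self]⟩
      left_inv := fun m => Subtype.ext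
        (congrArg Subtype.val ((cosetEquiv w n).symm_apply_apply ⟨m.1, m.2.1⟩) :)
      right_inv := fun a => Subtype.ext
        (congrArg Subtype.val ((cosetEquiv w n).apply_symm_apply ⟨a.1, (sum_coset w a.1).trans_le a.2.le⟩) :) }
  rw [Nat.card_congr e]
  split_ifs with hd
  · obtain ⟨k, rfl⟩ := hd
    rw [Nat.mul_div_cancel_left _ (orderOf_pos w), Nat.card_congr (Equiv.subtypeEquivRight
      (q := fun a : (ZMod r)ˣ ⧸ Subgroup.zpowers w → ℕ => ∑ c, a c = k)
      (fun a => Nat.mul_left_cancel_iff (orderOf_pos w))), card_sum_eq, ← Nat.card_eq_fintype_card,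
      card_quot w hs, add_comm k s]
    exact Nat.choose_symm_of_eq_add (by omega)
  · rw [Nat.card_eq_zero]
    exact Or.inl ⟨fun a => hd ⟨_, a.2.symm⟩⟩

/-- The unit of `ZMod r` generating the subgroup of a group element and `-1`. -/
theorem orderOf_neg_of_odd (hr2 : r ≠ 2) {u : (ZMod r)ˣ} (hu : Odd (orderOf u)) :
    orderOf (-u) = 2 * orderOf u := by
  have : NeZero r := ⟨(Fact.out : r.Prime).ne_zero⟩
  have h2 : orderOf (-1 : (ZMod r)ˣ) = 2 := by
    rw [← orderOf_units, Units.val_neg, Units.val_one, orderOf_neg_one, ringChar.eq (ZMod r) r, if_neg hr2]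
  rw [← neg_one_mul u, (Commute.all _ _).orderOf_mul_eq_mul_orderOf_of_coprime (by rw [h2]; exact hu.coprime_two_left), h2]

theorem neg_one_mem_of_even {u : (ZMod r)ˣ} (hu : Even (orderOf u)) :
    (-1 : (ZMod r)ˣ) = u ^ (orderOf u / 2) := by
  obtain ⟨k, hk⟩ := hu
  have hk' : orderOf u / 2 = k := by omega
  rw [hk']
  have hsq : ((u : ZMod r) ^ k) * ((u : ZMod r) ^ k) = 1 := by
    rw [← pow_add, ← hk, ← Units.val_pow_eq_pow_val, pow_orderOf_eq_one, Units.val_one]
  rcases mul_self_eq_one_iff.mp hsq with h | h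
  · exfalso
    have h1 : orderOf u ∣ k := orderOf_dvd_of_pow_eq_one (Units.ext (by simpa using h))
    have hpos := orderOf_pos u
    have := Nat.le_of_dvd (by omega) h1
    omega
  · exact Units.ext (by simpa using h.symm)

end Cfsg.Agent.Lib.Linear.PrimeClasses
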