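import Cfsg.Agent.Lib.Linear.SympConj

set_option linter.style.haveILetI false

/-!
# Square roots in centralisers away from the involutory part
-/

set_option autoImplicit false

namespace Cfsg.Agent.Lib.Linear.OrthConj

open scoped Matrix

variable {F : Type*} [Field F] {n : Type*} [Fintype n] [DecidableEq n]

/-- A self-adjoint invertible matrix commuting with a semisimple isometry is a norm `S° S` on the part where the
isometry differs from its inverse. -/
theorem exists_factor_away [Fintype F] {J A Ai H : Matrix n n F} {N : ℕ} (hN : (N : F) ≠ 0) (hAN : A ^ N = 1)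
    (hJ : IsUnit J) (hAJ : Aᵀ * J * A = J) (hAi : A * Ai = 1)
    (hH : IsUnit H) (hHA : Commute A H) (hHT : Hᵀ * J = J * H) :
    ∃ e S : Matrix n n F, e * e = e ∧ eᵀ * J = J * e ∧ Commute e A ∧ Commute e H ∧ (A - Ai) * (1 - e) = 0 ∧
      Commute S A ∧ e * S = S ∧ S * e = S ∧ Sᵀ * J * S = J * H * e := by
  classical
  obtain ⟨Ji, hJi⟩ := hJ.exists_left_inv
  have hJi' : J * Ji = 1 := mul_eq_one_comm.mp hJi
  have hAi' : Ai * A = 1 := mul_eq_one_comm.mp hAi
  have hN0 : N ≠ 0 := fun h => hN (by rw [h, Nat.cast_zero])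
  have hAiN : Ai = A ^ (N - 1) := by
    calc Ai = Ai * A ^ N := by rw [hAN, mul_one]
      _ = Ai * A * A ^ (N - 1) := by rw [mul_assoc, ← pow_succ', Nat.sub_add_cancel (Nat.one_le_iff_ne_zero.mpr hN0)]
      _ = A ^ (N - 1) := by rw [hAi', one_mul]
  have hAT : Aᵀ * J = J * Ai := by
    calc Aᵀ * J = Aᵀ * J * (A * Ai) := by rw [hAi, mul_one]
      _ = J * Ai := by rw [← mul_assoc, hAJ]
  let R : Subalgebra F (Matrix n n F) := Algebra.adjoin F ({A, H} : Set (Matrix n n F))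
  have hAR : A ∈ R := Algebra.subset_adjoin (Set.mem_insert _ _)
  have hHR : H ∈ R := Algebra.subset_adjoin (Set.mem_insert_of_mem _ rfl)
  have hAiR : Ai ∈ R := hAiN ▸ R.pow_mem hAR _
  have hcomm : ∀ x ∈ R, ∀ y ∈ R, x * y = y * x := by
    intro x hx y hy
    exact congrArg Subtype.val ((Algebra.adjoinCommRingOfComm F (s := ({A, H} : Set (Matrix n n F))) (by
      intro a ha b hb
      simp only [Set.mem_insert_iff, Set.mem_singleton_iff] at ha hb
      rcases ha with rfl | rfl <;> rcases hb with rfl | rfl <;> first | rfl | exact hHA.eq | exact hHA.eq.symm)).mul_comm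
        ⟨x, hx⟩ ⟨y, hy⟩)
  letI : CommRing R := { (inferInstance : Ring R) with
    mul_comm := fun x y => Subtype.ext (hcomm _ x.2 _ y.2) }
  let R₀ : Subring R :=
    { carrier := {r | (r : Matrix n n F)ᵀ * J = J * (r : Matrix n n F)}
      mul_mem' := fun {x y} hx hy => by
        show ((x : Matrix n n F) * (y : Matrix n n F))ᵀ * J = J * ((x : Matrix n n F) * (y : Matrix n n F))
        rw [Matrix.transpose_mul, mul_assoc, hx, ← mul_assoc, hy, mul_assoc, hcomm _ x.2 _ y.2]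
      one_mem' := by show (1 : Matrix n n F)ᵀ * J = J * 1; simp
      add_mem' := fun {x y} hx hy => by
        show ((x : Matrix n n F) + (y : Matrix n n F))ᵀ * J = J * ((x : Matrix n n F) + (y : Matrix n n F))
        rw [Matrix.transpose_add, add_mul, hx, hy, mul_add]
      zero_mem' := by show (0 : Matrix n n F)ᵀ * J = J * 0; simp
      neg_mem' := fun {x} hx => by
        show (-(x : Matrix n n F))ᵀ * J = J * (-(x : Matrix n n F))
        rw [Matrix.transpose_neg, neg_mul, hx, mul_neg] }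
  have hAiT : Aiᵀ * J = J * A := by
    calc Aiᵀ * J = Aiᵀ * J * (Ai * A) := by rw [hAi', mul_one]
      _ = Aiᵀ * (Aᵀ * J) * A := by rw [hAT]; simp only [mul_assoc]
      _ = (A * Ai)ᵀ * J * A := by rw [Matrix.transpose_mul]; simp only [mul_assoc]
      _ = J * A := by rw [hAi, Matrix.transpose_one, one_mul]
  let t : R₀ := ⟨⟨A + Ai, R.add_mem hAR hAiR⟩, by
    show (A + Ai)ᵀ * J = J * (A + Ai)
    rw [Matrix.transpose_add, add_mul, hAT, hAiT, mul_add, add_comm]⟩
  let D : R₀ := t ^ 2 - 4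
  obtain ⟨k, hk1, hk⟩ := Cfsg.Lib.Linear.SympConj.exists_idempotent_pow D
  set e : R₀ := D ^ k with he
  let hh : R₀ := ⟨⟨H, hHR⟩, hHT⟩
  have hhu : IsUnit hh := IsUnit.isUnit_iff_mulLeft_bijective.mpr (Finite.injective_iff_bijective.mp fun x y hxy =>
    Subtype.ext (Subtype.ext (hH.mul_left_cancel
      (congrArg (fun r : R₀ => ((r : R) : Matrix n n F)) hxy))))
  obtain ⟨hi, hhi⟩ := hhu.exists_left_inv
  have h1e : e * e = e := hk
  obtain ⟨a, b, hab⟩ := Cfsg.Lib.Linear.HermitianNorm.exists_repr (e * t + (1 - e)) e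
    (by
      refine IsUnit.of_mul_eq_one (e * D ^ (k - 1) + (1 - e)) ?_
      rw [Cfsg.Lib.Linear.SympConj.idem_disc h1e]
      refine Cfsg.Lib.Linear.SympConj.idem_inv h1e ?_
      rw [← pow_succ', Nat.sub_add_cancel hk1]
      exact h1e)
    (by
      rcases eq_or_ne (2 : F) 0 with h | h
      · right
        refine Subtype.ext (Subtype.ext ?_)
        show (2 : Matrix n n F) = 0
        rw [← map_ofNat (algebraMap F (Matrix n n F)) 2, h, map_zero]
      · left
        refine IsUnit.of_mul_eq_one (⟨algebraMap F R (2 : F)⁻¹, ?_⟩ : R₀) (Subtype.ext (Subtype.ext ?_))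
        · show (algebraMap F (Matrix n n F) (2 : F)⁻¹)ᵀ * J = J * algebraMap F (Matrix n n F) (2 : F)⁻¹
          rw [Algebra.algebraMap_eq_smul_one, Matrix.transpose_smul, Matrix.transpose_one, smul_mul_assoc, one_mul,
            mul_smul_comm, mul_one]
        · show (2 : Matrix n n F) * algebraMap F (Matrix n n F) (2 : F)⁻¹ = 1
          rw [← map_ofNat (algebraMap F (Matrix n n F)) 2, ← map_mul, mul_inv_cancel₀ h, map_one])
    (h := e * hh + (1 - e))
    (IsUnit.of_mul_eq_one (e * hi + (1 - e)) (Cfsg.Lib.Linear.SympConj.idem_inv h1e (by rw [mul_comm hh, hhi, mul_one])))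
  -- matrices
  set a' : Matrix n n F := ((a : R) : Matrix n n F) with ha'
  set b' : Matrix n n F := ((b : R) : Matrix n n F) with hb'
  set e' : Matrix n n F := ((e : R) : Matrix n n F) with he'
  have heT : e'ᵀ * J = J * e' := e.2
  have he2 : e' * e' = e' := congrArg (fun r : R₀ => ((r : R) : Matrix n n F)) h1e
  have heR : e' ∈ R := (e : R).2
  have habe : e' * (a' * a' + (A + Ai) * a' * b' + b' * b') = e' * H := by
    have h := congrArg (fun r : R₀ => ((r : R) : Matrix n n F))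
      (Cfsg.Lib.Linear.SympConj.idem_repr h1e hab)
    exact h
  have heA : e' ∈ Algebra.adjoin F ({A} : Set (Matrix n n F)) := by
    have hA1 : A ∈ Algebra.adjoin F ({A} : Set (Matrix n n F)) := Algebra.self_mem_adjoin_singleton F A
    have hA2 : Ai ∈ Algebra.adjoin F ({A} : Set (Matrix n n F)) := hAiN ▸ Subalgebra.pow_mem _ hA1 _
    have h : e' = ((A + Ai) ^ 2 - 4) ^ k := rfl
    rw [h]
    refine Subalgebra.pow_mem _ (Subalgebra.sub_mem _ (Subalgebra.pow_mem _ (Subalgebra.add_mem _ hA1 hA2) _) ?_) _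
    rw [← map_ofNat (algebraMap F (Matrix n n F)) 4]
    exact Subalgebra.algebraMap_mem _ _
  -- on the complement `A` is an involution
  have hinv : (A - Ai) * (1 - e') = 0 := by
    have hA1 : A ∈ Algebra.adjoin F ({A} : Set (Matrix n n F)) := Algebra.self_mem_adjoin_singleton F A
    refine Cfsg.Lib.Linear.SympConj.eq_zero_of_nilpotent hN hAN (Subalgebra.mul_mem _ (Subalgebra.sub_mem _ hA1
      (hAiN ▸ Subalgebra.pow_mem _ hA1 _)) (Subalgebra.sub_mem _ (Subalgebra.one_mem _) heA)) ⟨2 * k, ?_⟩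
    have h0 : (((⟨A, hAR⟩ : R) - ⟨Ai, hAiR⟩) * (1 - (e : R))) ^ (2 * k) = 0 := by
      have hAA : (⟨A, hAR⟩ : R) * ⟨Ai, hAiR⟩ = 1 := Subtype.ext hAi
      have hDR : ((⟨A, hAR⟩ : R) - ⟨Ai, hAiR⟩) ^ 2 = (D : R) := by
        show _ = ((⟨A, hAR⟩ : R) + ⟨Ai, hAiR⟩) ^ 2 - 4
        linear_combination (-4 : R) * hAA
      have hee : (e : R) * (e : R) = (e : R) := congrArg Subtype.val h1e
      have hidem : IsIdempotentElem (1 - (e : R)) :=
        IsIdempotentElem.one_sub (show IsIdempotentElem (e : R) from hee)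
      rw [mul_pow, pow_mul, hDR, hidem.pow_eq (by omega)]
      show (e : R) * (1 - (e : R)) = 0
      rw [mul_sub, mul_one, hee, sub_self]
    exact congrArg (Subtype.val : R → Matrix n n F) h0
  set s : Matrix n n F := e' * (a' + b' * A) with hs
  have c0 : sᵀ * J * s = J * H * e' := by
    have haT : a'ᵀ * J = J * a' := a.2
    have hbT : b'ᵀ * J = J * b' := b.2
    have h1 : (a' + b' * A)ᵀ * J = J * (a' + Ai * b') := by
      rw [Matrix.transpose_add, Matrix.transpose_mul, add_mul, haT, mul_assoc, hbT, ← mul_assoc, hAT, mul_add,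
        mul_assoc]
    have hRR : (⟨e', heR⟩ : R) * ((⟨a', (a : R).2⟩ : R) + ⟨Ai, hAiR⟩ * ⟨b', (b : R).2⟩) *
        (⟨e', heR⟩ * ((⟨a', (a : R).2⟩ : R) + ⟨b', (b : R).2⟩ * ⟨A, hAR⟩)) = ⟨H, hHR⟩ * ⟨e', heR⟩ := by
      have hAA : (⟨A, hAR⟩ : R) * ⟨Ai, hAiR⟩ = 1 := Subtype.ext hAi
      have hee : (⟨e', heR⟩ : R) * ⟨e', heR⟩ = ⟨e', heR⟩ := Subtype.ext he2
      have hE : (⟨e', heR⟩ : R) * ((⟨a', (a : R).2⟩ : R) * ⟨a', (a : R).2⟩ + (⟨A, hAR⟩ + ⟨Ai, hAiR⟩) * ⟨a', (a : R).2⟩ * ⟨b', (b : R).2⟩ +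
          ⟨b', (b : R).2⟩ * ⟨b', (b : R).2⟩) = ⟨e', heR⟩ * ⟨H, hHR⟩ := Subtype.ext habe
      linear_combination hE + ((⟨a', (a : R).2⟩ : R) + ⟨Ai, hAiR⟩ * ⟨b', (b : R).2⟩) *
        ((⟨a', (a : R).2⟩ : R) + ⟨b', (b : R).2⟩ * ⟨A, hAR⟩) * hee +
        (⟨e', heR⟩ : R) * ⟨b', (b : R).2⟩ * ⟨b', (b : R).2⟩ * hAA
    have hM : e' * (a' + Ai * b') * (e' * (a' + b' * A)) = H * e' := congrArg Subtype.val hRR
    have hc : (a' + Ai * b') * e' = e' * (a' + Ai * b') :=
      hcomm _ (R.add_mem (a : R).2 (R.mul_mem hAiR (b : R).2)) _ heR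
    calc sᵀ * J * s = (a' + b' * A)ᵀ * (e'ᵀ * J) * (e' * (a' + b' * A)) := by
          rw [hs, Matrix.transpose_mul]; simp only [mul_assoc]
      _ = ((a' + b' * A)ᵀ * J) * e' * (e' * (a' + b' * A)) := by rw [heT]; simp only [mul_assoc]
      _ = J * ((a' + Ai * b') * e') * (e' * (a' + b' * A)) := by rw [h1]; simp only [mul_assoc]
      _ = J * (e' * (a' + Ai * b') * (e' * (a' + b' * A))) := by rw [hc]; simp only [mul_assoc]
      _ = J * H * e' := by rw [hM, mul_assoc]
  refine ⟨e', s, he2, heT, hcomm _ heR _ hAR, hcomm _ heR _ hHR, hinv,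
    hcomm _ (R.mul_mem heR (R.add_mem (a : R).2 (R.mul_mem (b : R).2 hAR))) _ hAR, ?_, ?_, c0⟩
  · rw [hs, ← mul_assoc, he2]
  · rw [hs, hcomm _ heR _ (R.add_mem (a : R).2 (R.mul_mem (b : R).2 hAR)), mul_assoc, he2]

end Cfsg.Agent.Lib.Linear.OrthConj
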